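import Groth.Prelude.Def_SpSeq
import Mathlib.Algebra.Homology.SpectralObject.SpectralSequence
import Mathlib.Algebra.Homology.SpectralObject.FirstPage
import Mathlib.Order.Interval.Finset.Defs
import Mathlib.Data.Int.Interval

/-!
# Abutment of the spectral sequence of a bounded spectral object

For `Y : Abelian.SpectralObject C EInt` such that for every `n` the objects `H^n(i ≤ j)` vanish for `j` small and for
`i` large, the spectral sequence of `Y` (for `E₁` or `E₂` data) has an `SpSeq.Abutment` on `H^n(⊥ ≤ ⊤)`, with finite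
filtrations.
-/

set_option autoImplicit false

universe v u

open CategoryTheory CategoryTheory.Limits CategoryTheory.Abelian CategoryTheory.ComposableArrows

namespace K224.SpAbut

variable {C : Type u} [Category.{v} C] [Abelian C]

section Subquot

variable {A₁ A E B T : C} (a : A₁ ⟶ A) (t : T ⟶ A) (φ : A ⟶ B) (π : A ⟶ E)

/-- If `A₁ ⊞ T ⟶ A ⟶ E ⟶ 0` and `T ⟶ A ⟶ B` are exact, then `E` is the subquotient `im φ / im (a ≫ φ)` of `B`. -/
theorem nonempty_iso_subquot [Epi π] (ha : a ≫ π = 0) (ht : t ≫ π = 0)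
    (hex : (ShortComplex.mk (biprod.desc a t) π (by ext <;> simp [ha, ht])).Exact)
    (hφ : t ≫ φ = 0) (hφex : (ShortComplex.mk t φ hφ).Exact)
    (W₁ : Subobject B) (hW₁ : W₁ = imageSubobject (a ≫ φ)) (W₂ : Subobject B) (hW₂ : W₂ = imageSubobject φ)
    (h : W₁ ≤ W₂) :
    Nonempty (E ≅ SpSeq.subquot W₂ W₁ h) := by
  subst hW₁ hW₂
  -- the epimorphism `A ⟶ im φ`
  let p : A ⟶ (imageSubobject φ : C) := factorThruImageSubobject φ
  have hp : p ≫ (imageSubobject φ).arrow = φ := imageSubobject_arrow_comp φ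
  let p₁ : A₁ ⟶ (imageSubobject (a ≫ φ) : C) := factorThruImageSubobject (a ≫ φ)
  have hp₁ : p₁ ≫ (imageSubobject (a ≫ φ)).arrow = a ≫ φ := imageSubobject_arrow_comp _
  have htp : t ≫ p = 0 := by
    rw [← cancel_mono (imageSubobject φ).arrow, Category.assoc, hp, hφ, zero_comp]
  have hpex : (ShortComplex.mk t p htp).Exact := by
    rw [ShortComplex.exact_iff_exact_up_to_refinements] at hφex ⊢
    intro X x hx
    have hx' : x ≫ p = 0 := hx
    have hx'' : x ≫ φ = 0 := by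
      have h4 := congrArg (· ≫ (imageSubobject φ).arrow) hx'
      simpa only [Category.assoc, hp, zero_comp] using h4
    exact hφex x hx''
  have : Epi p := inferInstance
  have : Epi p₁ := inferInstance
  have hcomm : p₁ ≫ (imageSubobject (a ≫ φ)).ofLE (imageSubobject φ) h = a ≫ p := by
    rw [← cancel_mono (imageSubobject φ).arrow]
    simp [hp, hp₁]
  let c : (imageSubobject φ : C) ⟶ SpSeq.subquot (imageSubobject φ) (imageSubobject (a ≫ φ)) h :=
    cokernel.π ((imageSubobject (a ≫ φ)).ofLE (imageSubobject φ) h)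
  have hc : (imageSubobject (a ≫ φ)).ofLE (imageSubobject φ) h ≫ c = 0 := cokernel.condition _
  have : Epi c := inferInstanceAs (Epi (cokernel.π _))
  -- map `E ⟶ subquot`
  let f : E ⟶ SpSeq.subquot (imageSubobject φ) (imageSubobject (a ≫ φ)) h :=
    hex.desc (p ≫ c) (by
      ext
      · simp only [biprod.inl_desc_assoc, comp_zero]
        rw [← Category.assoc, ← hcomm, Category.assoc, hc, comp_zero]
      · simp only [biprod.inr_desc_assoc, comp_zero]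
        rw [← Category.assoc, htp, zero_comp])
  have hf : π ≫ f = p ≫ c := hex.g_desc _ _
  -- map `im φ ⟶ E`
  have : Epi (ShortComplex.mk t p htp).g := by dsimp; infer_instance
  let g' : (imageSubobject φ : C) ⟶ E := hpex.desc π ht
  have hg' : p ≫ g' = π := hpex.g_desc _ _
  let g : SpSeq.subquot (imageSubobject φ) (imageSubobject (a ≫ φ)) h ⟶ E :=
    cokernel.desc _ g' (by
      rw [← cancel_epi p₁, ← Category.assoc, hcomm, Category.assoc, hg', ha, comp_zero])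
  have hg : c ≫ g = g' := cokernel.π_desc _ _ _
  refine ⟨⟨f, g, ?_, ?_⟩⟩
  · rw [← cancel_epi π, ← Category.assoc, hf, Category.assoc, hg, hg', Category.comp_id]
  · rw [← cancel_epi c, ← cancel_epi p]
    rw [← Category.assoc c, hg, ← Category.assoc, hg', hf, Category.comp_id]

end Subquot

section

variable (Y : SpectralObject C EInt)

/-- The abutment object `H^n(⊥ ≤ ⊤)`. -/
noncomputable abbrev Ht (n : ℤ) : C := (Y.H n).obj (mk₁ (homOfLE (bot_le : (⊥ : EInt) ≤ ⊤)))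

/-- The map `H^n(⊥ ≤ i) ⟶ H^n(⊥ ≤ ⊤)`. -/
noncomputable abbrev toHt (n : ℤ) (i : EInt) :
    (Y.H n).obj (mk₁ (homOfLE (bot_le : (⊥ : EInt) ≤ i))) ⟶ Ht Y n :=
  (Y.H n).map (twoδ₂Toδ₁ (homOfLE bot_le) (homOfLE (le_top : i ≤ ⊤)) (homOfLE bot_le) rfl)

/-- The image of `H^n(⊥ ≤ i)` in `H^n(⊥ ≤ ⊤)`. -/
noncomputable def W (n : ℤ) (i : EInt) : Subobject (Ht Y n) := imageSubobject (toHt Y n i)

theorem map_toHt (n : ℤ) {i j : EInt} (h : i ≤ j) :
    (Y.H n).map (twoδ₂Toδ₁ (homOfLE bot_le) (homOfLE h) (homOfLE bot_le) rfl) ≫ toHt Y n j = toHt Y n i := by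
  rw [toHt, ← Functor.map_comp]
  congr 1

theorem imageSubobject_congr {A B : C} {f g : A ⟶ B} (h : f = g) : imageSubobject f = imageSubobject g := by
  subst h; rfl

theorem W_mono (n : ℤ) : Monotone (W Y n) := by
  intro i j h
  exact (imageSubobject_congr (map_toHt Y n h)).symm.le.trans (imageSubobject_comp_le _ _)

theorem W_eq_bot (n : ℤ) (i : EInt) (h : IsZero ((Y.H n).obj (mk₁ (homOfLE (bot_le : (⊥ : EInt) ≤ i))))) :
    W Y n i = ⊥ := by
  exact (imageSubobject_congr (h.eq_of_src (toHt Y n i) 0)).trans imageSubobject_zero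

theorem W_eq_top (n : ℤ) (i : EInt) (h : IsZero ((Y.H n).obj (mk₁ (homOfLE (le_top : i ≤ ⊤))))) :
    W Y n i = ⊤ := by
  have : Epi (toHt Y n i) :=
    (Y.exact₂ (homOfLE (bot_le : (⊥ : EInt) ≤ i)) (homOfLE le_top) (homOfLE bot_le) rfl n).epi_f (h.eq_of_tgt _ _)
  have h2 : Epi (imageSubobject (toHt Y n i)).arrow := by
    apply epi_of_epi_fac (imageSubobject_arrow_comp (toHt Y n i))
  have : IsIso (imageSubobject (toHt Y n i)).arrow := isIso_of_mono_of_epi _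
  exact (Subobject.isIso_arrow_iff_eq_top (imageSubobject (toHt Y n i))).1 this

/-- `E^n(⊥ ≤ i ≤ j ≤ ⊤)` is the graded piece `W j / W i`. -/
theorem nonempty_E_iso (n₀ n n₂ : ℤ) (hn₁ : n₀ + 1 = n) (hn₂ : n + 1 = n₂) (i j : EInt) (h : i ≤ j) (W₁ W₂ : Subobject (Ht Y n))
    (hW₁ : W₁ = W Y n i) (hW₂ : W₂ = W Y n j) (hle : W₁ ≤ W₂) :
    Nonempty (Y.E (homOfLE (bot_le : (⊥ : EInt) ≤ i)) (homOfLE h) (homOfLE (le_top : j ≤ ⊤)) n₀ n n₂ hn₁ hn₂ ≅
      SpSeq.subquot W₂ W₁ hle) := by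
  let a : (Y.H n).obj (mk₁ (homOfLE (bot_le : (⊥ : EInt) ≤ i))) ⟶ (Y.H n).obj (mk₁ (homOfLE (bot_le : (⊥ : EInt) ≤ j))) :=
    (Y.H n).map (twoδ₂Toδ₁ (homOfLE bot_le) (homOfLE h) (homOfLE bot_le) rfl)
  let t : (Y.H n₀).obj (mk₁ (homOfLE (le_top : j ≤ ⊤))) ⟶ (Y.H n).obj (mk₁ (homOfLE (bot_le : (⊥ : EInt) ≤ j))) :=
    Y.δ (homOfLE bot_le) (homOfLE le_top) n₀ n hn₁
  let π := Y.toCycles (homOfLE (bot_le : (⊥ : EInt) ≤ i)) (homOfLE h) (homOfLE bot_le) rfl n ≫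
    Y.πE (homOfLE (bot_le : (⊥ : EInt) ≤ i)) (homOfLE h) (homOfLE (le_top : j ≤ ⊤)) n₀ n n₂ hn₁ hn₂
  have hπ : Epi π := inferInstance
  have hS := Y.cokernelSequenceE_exact (homOfLE (bot_le : (⊥ : EInt) ≤ i)) (homOfLE h) (homOfLE (le_top : j ≤ ⊤))
    (homOfLE bot_le) rfl n₀ n n₂ hn₁ hn₂
  have hz : biprod.desc a t ≫ π = 0 := (Y.cokernelSequenceE (homOfLE (bot_le : (⊥ : EInt) ≤ i)) (homOfLE h) (homOfLE (le_top : j ≤ ⊤))
    (homOfLE bot_le) rfl n₀ n n₂ hn₁ hn₂).zero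
  have h1 : a ≫ π = 0 := by
    rw [← biprod.inl_desc a t, Category.assoc, hz, comp_zero]
  have h2 : t ≫ π = 0 := by
    rw [← biprod.inr_desc a t, Category.assoc, hz, comp_zero]
  refine nonempty_iso_subquot a t (toHt Y n j) π h1 h2 hS
    (Y.zero₁ (homOfLE bot_le) (homOfLE le_top) (homOfLE bot_le) rfl n₀ n hn₁)
    (Y.exact₁ (homOfLE bot_le) (homOfLE le_top) (homOfLE bot_le) rfl n₀ n hn₁) W₁ ?_ W₂ hW₂ hle
  rw [hW₁]
  exact (imageSubobject_congr (map_toHt Y n h)).symm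

end

/-- The data of an `E₁`-cohomological spectral sequence indexed by `ℤ × ℤ` attached to a spectral object indexed by `EInt`:
`E₁^{p,q} = H^{p+q}(-p-1 ≤ -p)` (the increasing index `i` corresponds to the decreasing filtration `F^{-i}`). -/
@[simps!]
def coreE₁Cohomological :
    SpectralObject.SpectralSequenceDataCore EInt (fun r ↦ ComplexShape.up' (⟨r, 1 - r⟩ : ℤ × ℤ)) 1 where
  deg pq := pq.1 + pq.2
  i₀ r pq hr := (-pq.1 - r :)
  i₁ pq := (-pq.1 - 1 :)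
  i₂ pq := (-pq.1 :)
  i₃ r pq hr := (-pq.1 + r - 1 :)
  le₀₁ r pq hr := by simp; lia
  le₁₂ pq := by simp
  le₂₃ r pq hr := by simp; lia
  hc := by rintro r pq _ rfl _; dsimp; lia
  hc₀₂ := by rintro r pq hr rfl _; simp; lia
  hc₁₃ := by rintro r pq hr rfl _; simp
  antitone_i₀ r r' pq hr hrr' := by simp; lia
  monotone_i₃ r r' pq hr hrr' := by simp; lia
  i₀_prev := by
    rintro r r' hr pq rfl _ _
    dsimp
    lia +mbtc
  i₃_next := by
    rintro r r' hr pq rfl _ _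
    dsimp
    lia +mbtc

instance : coreE₁Cohomological.HasFirstPageComputation where
  hi₀₁ pq := rfl
  hi₂₃ pq := by
    have h : -pq.1 = -pq.1 + 1 - 1 := by lia
    exact congrArg WithBotTop.coe h

instance (E : SpectralObject C EInt) : E.HasSpectralSequence coreE₁Cohomological where
  isZero_H_obj_mk₁_i₀_le r r' pq hpq n hn hrr' hr := by
    exfalso
    exact hpq _ rfl
  isZero_H_obj_mk₁_i₃_le r r' pq hpq n hn hrr' hr := by
    exfalso
    exact hpq (pq - (r, 1 - r)) (by simp)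

section Abut

variable (Y : SpectralObject C EInt) {r₀ : ℤ}
  (data : SpectralObject.SpectralSequenceDataCore EInt (fun r ↦ ComplexShape.up' (⟨r, 1 - r⟩ : ℤ × ℤ)) r₀)
  [Y.HasSpectralSequence data]

/-- Bounded spectral objects: for every `n`, `H^n(i ≤ j)` vanishes for `j` small and for `i` large. -/
structure IsBdd : Prop where
  low : ∀ n : ℤ, ∃ a : ℤ, ∀ (i j : EInt) (h : i ≤ j), j ≤ (a : EInt) → IsZero ((Y.H n).obj (mk₁ (homOfLE h)))
  high : ∀ n : ℤ, ∃ b : ℤ, ∀ (i j : EInt) (h : i ≤ j), (b : EInt) ≤ i → IsZero ((Y.H n).obj (mk₁ (homOfLE h)))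

/-- Auxiliary data relating a spectral sequence recipe with a family of decreasing filtrations. -/
structure FilData where
  w : ℤ → ℤ → ℤ
  anti : ∀ n, Antitone (w n)
  low : ∀ n a : ℤ, ∃ p, w n p ≤ a
  high : ∀ n b : ℤ, ∃ p, b ≤ w n p
  deg : ∀ pq : ℤ × ℤ, data.deg pq = pq.1 + pq.2
  i₂ : ∀ pq : ℤ × ℤ, data.i₂ pq = (w (pq.1 + pq.2) pq.1 : EInt)
  i₁ : ∀ pq : ℤ × ℤ, data.i₁ pq = (w (pq.1 + pq.2) (pq.1 + 1) : EInt)
  i₀ : ∀ (pq : ℤ × ℤ) (a : ℤ), ∃ R : ℤ, ∀ (r : ℤ) (hr : r₀ ≤ r), R ≤ r → data.i₀ r pq hr ≤ (a : EInt)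
  i₃ : ∀ (pq : ℤ × ℤ) (b : ℤ), ∃ R : ℤ, ∀ (r : ℤ) (hr : r₀ ≤ r), R ≤ r → (b : EInt) ≤ data.i₃ r pq hr

variable {data}

theorem stationary (hY : IsBdd Y) (D : FilData data) (pq : ℤ × ℤ) :
    ∃ R : ℤ, r₀ ≤ R ∧ SpSeq.StationaryAt (Y.spectralSequence data) pq R ∧
      ∃ (a b : ℤ),
        (∀ (i j : EInt) (h : i ≤ j), j ≤ (a : EInt) → IsZero ((Y.H (pq.1 + pq.2 + 1)).obj (mk₁ (homOfLE h)))) ∧
        (∀ (i j : EInt) (h : i ≤ j), (b : EInt) ≤ i → IsZero ((Y.H (pq.1 + pq.2 - 1)).obj (mk₁ (homOfLE h)))) ∧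
        (∀ (r : ℤ) (hr : r₀ ≤ r), R ≤ r → data.i₀ r pq hr ≤ (a : EInt) ∧ (b : EInt) ≤ data.i₃ r pq hr) := by
  obtain ⟨a, ha⟩ := hY.low (pq.1 + pq.2 + 1)
  obtain ⟨b, hb⟩ := hY.high (pq.1 + pq.2 - 1)
  obtain ⟨R₀, h₀⟩ := D.i₀ pq a
  obtain ⟨R₃, h₃⟩ := D.i₃ pq b
  refine ⟨max r₀ (max R₀ R₃), le_max_left _ _, ⟨le_max_left _ _, fun r hr hr' => ⟨?_, ?_⟩⟩, a, b, ha, hb,
    fun r hr hr' => ⟨h₀ r hr ?_, h₃ r hr ?_⟩⟩
  · have hrel : (ComplexShape.up' (⟨r, 1 - r⟩ : ℤ × ℤ)).Rel (pq - (r, 1 - r)) pq := by simp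
    apply IsZero.eq_of_src
    apply Y.isZero_spectralSequence_page_X_of_isZero_H data r hr _ (pq.1 + pq.2 - 1)
      (by have := data.hc r _ _ hrel hr; have := D.deg pq; lia) _ _ rfl rfl
    apply hb
    rw [data.hc₁₃ r _ _ hrel hr]
    exact h₃ r hr (le_trans (le_trans (le_max_right _ _) (le_max_right _ _)) hr')
  · have hrel : (ComplexShape.up' (⟨r, 1 - r⟩ : ℤ × ℤ)).Rel pq (pq + (r, 1 - r)) := by simp
    apply IsZero.eq_of_tgt
    apply Y.isZero_spectralSequence_page_X_of_isZero_H data r hr _ (pq.1 + pq.2 + 1)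
      (by have := data.hc r _ _ hrel hr; have := D.deg pq; lia) _ _ rfl rfl
    apply ha
    rw [← data.hc₀₂ r _ _ hrel hr]
    exact h₀ r hr (le_trans (le_trans (le_max_left _ _) (le_max_right _ _)) hr')
  · exact le_trans (le_trans (le_max_left _ _) (le_max_right _ _)) hr'
  · exact le_trans (le_trans (le_max_right _ _) (le_max_right _ _)) hr'

theorem nonempty_page_iso_gr (D : FilData data) (pq : ℤ × ℤ) (r : ℤ) (hr : r₀ ≤ r) (a b : ℤ)
    (ha : ∀ (i j : EInt) (h : i ≤ j), j ≤ (a : EInt) → IsZero ((Y.H (pq.1 + pq.2 + 1)).obj (mk₁ (homOfLE h))))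
    (hb : ∀ (i j : EInt) (h : i ≤ j), (b : EInt) ≤ i → IsZero ((Y.H (pq.1 + pq.2 - 1)).obj (mk₁ (homOfLE h))))
    (hra : data.i₀ r pq hr ≤ (a : EInt)) (hrb : (b : EInt) ≤ data.i₃ r pq hr)
    (hle : W Y (pq.1 + pq.2) (D.w (pq.1 + pq.2) (pq.1 + 1) : EInt) ≤ W Y (pq.1 + pq.2) (D.w (pq.1 + pq.2) pq.1 : EInt)) :
    Nonempty (((Y.spectralSequence data).page r hr).X pq ≅
      SpSeq.subquot (W Y (pq.1 + pq.2) (D.w (pq.1 + pq.2) pq.1 : EInt))
        (W Y (pq.1 + pq.2) (D.w (pq.1 + pq.2) (pq.1 + 1) : EInt)) hle) := by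
  have e₁ := Y.spectralSequencePageXIso data r hr pq _ _ _ _ rfl rfl rfl rfl (pq.1 + pq.2 - 1) (pq.1 + pq.2)
    (pq.1 + pq.2 + 1) (D.deg pq).symm
  have e₂ := Y.isoMapFourδ₁Toδ₀' ⊥ (data.i₀ r pq hr) (data.i₁ pq) (data.i₂ pq) (data.i₃ r pq hr) bot_le
    (data.le₀₁ r pq hr) (data.le₁₂ pq) (data.le₂₃ r pq hr) (pq.1 + pq.2 - 1) (pq.1 + pq.2)
    (pq.1 + pq.2 + 1) (ha _ _ _ hra)
  have e₃ := Y.isoMapFourδ₄Toδ₃' ⊥ (data.i₁ pq) (data.i₂ pq) (data.i₃ r pq hr) ⊤ bot_le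
    (data.le₁₂ pq) (data.le₂₃ r pq hr) le_top (pq.1 + pq.2 - 1) (pq.1 + pq.2)
    (pq.1 + pq.2 + 1) (hb _ _ _ hrb)
  obtain ⟨e₄⟩ := nonempty_E_iso Y (pq.1 + pq.2 - 1) (pq.1 + pq.2) (pq.1 + pq.2 + 1) (by lia) (by lia)
    (data.i₁ pq) (data.i₂ pq) (data.le₁₂ pq) (W Y (pq.1 + pq.2) (D.w (pq.1 + pq.2) (pq.1 + 1) : EInt))
    (W Y (pq.1 + pq.2) (D.w (pq.1 + pq.2) pq.1 : EInt)) (by rw [D.i₁]) (by rw [D.i₂]) hle
  exact ⟨e₁ ≪≫ e₂.symm ≪≫ e₃ ≪≫ e₄⟩

/-- **Convergence**: the spectral sequence of a bounded spectral object abuts to `H^n(⊥ ≤ ⊤)`, with finite filtrations, and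
is bounded. -/
theorem exists_abutment (hY : IsBdd Y) (D : FilData data) :
    ∃ a : SpSeq.Abutment (Y.spectralSequence data) (fun n => Ht Y n),
      (∀ n, a.IsFinite n) ∧ SpSeq.IsBounded (Y.spectralSequence data) := by
  have hst := fun pq => stationary Y hY D pq
  choose R hR hst a b ha hb hR' using hst
  have hanti : ∀ n, Antitone (fun p : ℤ => W Y n (D.w n p : EInt)) := fun n p q h =>
    W_mono Y n (WithBotTop.coe_le_coe.2 (D.anti n h))
  have hgr := fun pq : ℤ × ℤ => nonempty_page_iso_gr Y D pq (R pq) (hR pq) (a pq) (b pq) (ha pq) (hb pq)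
    (hR' pq (R pq) (hR pq) le_rfl).1 (hR' pq (R pq) (hR pq) le_rfl).2 (hanti _ (by lia))
  refine ⟨{ fil := fun n p => W Y n (D.w n p : EInt)
            anti := hanti
            rk := R
            stat := hst
            β := fun pq => (hgr pq).some }, fun n => ⟨?_, ?_⟩, fun n => ?_⟩
  · obtain ⟨b', hb'⟩ := hY.high n
    obtain ⟨p, hp⟩ := D.high n b'
    exact ⟨p, W_eq_top Y n _ (hb' _ _ _ (WithBotTop.coe_le_coe.2 hp))⟩
  · obtain ⟨a', ha'⟩ := hY.low n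
    obtain ⟨p, hp⟩ := D.low n a'
    exact ⟨p, W_eq_bot Y n _ (ha' _ _ _ (WithBotTop.coe_le_coe.2 hp))⟩
  · obtain ⟨a', ha'⟩ := hY.low n
    obtain ⟨b', hb'⟩ := hY.high n
    obtain ⟨p₀, hp₀⟩ := D.low n a'
    obtain ⟨p₁, hp₁⟩ := D.high n b'
    refine (Set.finite_Icc (p₁ : ℤ) p₀).subset fun p hp => ?_
    by_contra hcon
    apply hp
    have hdeg : n = data.deg (p, n - p) := by rw [D.deg]; simp
    rw [Set.mem_Icc, not_and_or, not_le, not_le] at hcon
    rcases hcon with h | h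
    · apply Y.isZero_spectralSequence_page_X_of_isZero_H data r₀ le_rfl _ n hdeg _ _ rfl rfl
      apply hb'
      rw [D.i₁]
      have hn : p + (n - p) = n := by lia
      simp only [hn]
      exact WithBotTop.coe_le_coe.2 (hp₁.trans (D.anti n (by lia)))
    · apply Y.isZero_spectralSequence_page_X_of_isZero_H data r₀ le_rfl _ n hdeg _ _ rfl rfl
      apply ha'
      rw [D.i₂]
      have hn : p + (n - p) = n := by lia
      simp only [hn]
      exact WithBotTop.coe_le_coe.2 ((D.anti n (by lia)).trans hp₀)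

end Abut

/-- Filtration data for the `E₁` recipe: `F^p` is the image of `H^n(⊥ ≤ -p)`. -/
def filData₁ : FilData coreE₁Cohomological where
  w _ p := -p
  anti _ _ _ h := neg_le_neg h
  low _ a := ⟨-a, by lia⟩
  high _ b := ⟨-b, by lia⟩
  deg _ := rfl
  i₂ _ := rfl
  i₁ pq := by
    have h : -pq.1 - 1 = -(pq.1 + 1) := by lia
    exact congrArg WithBotTop.coe h
  i₀ pq a := ⟨-pq.1 - a, fun r hr h => WithBotTop.coe_le_coe.2 (by lia)⟩
  i₃ pq b := ⟨b + pq.1 + 1, fun r hr h => WithBotTop.coe_le_coe.2 (by lia)⟩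

/-- Filtration data for Mathlib's `E₂` recipe: `F^p H^n` is the image of `H^n(⊥ ≤ n - p + 1)`. -/
def filData₂ : FilData SpectralObject.coreE₂Cohomological where
  w n p := n - p + 1
  anti _ _ _ h := by dsimp; lia
  low n a := ⟨n - a + 1, by lia⟩
  high n b := ⟨n - b + 1, by lia⟩
  deg _ := rfl
  i₂ pq := by
    have h : pq.2 + 1 = pq.1 + pq.2 - pq.1 + 1 := by lia
    exact congrArg WithBotTop.coe h
  i₁ pq := by
    have h : pq.2 = pq.1 + pq.2 - (pq.1 + 1) + 1 := by lia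
    exact congrArg WithBotTop.coe h
  i₀ pq a := ⟨pq.2 + 2 - a, fun r hr h => WithBotTop.coe_le_coe.2 (by lia)⟩
  i₃ pq b := ⟨b - pq.2 + 1, fun r hr h => WithBotTop.coe_le_coe.2 (by lia)⟩

section Transport

variable {X X' : C} (e : X ≅ X')

/-- The image of a subobject under an isomorphism. -/
noncomputable def tr (S : Subobject X) : Subobject X' := Subobject.mk (S.arrow ≫ e.hom)

omit [Abelian C] in
theorem tr_mono : Monotone (tr e) := fun S T h =>
  Subobject.mk_le_mk_of_comm (S.ofLE T h) (by simp)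

theorem tr_bot : tr e ⊥ = ⊥ := by
  rw [tr, Subobject.mk_eq_bot_iff_zero]
  simp

omit [Abelian C] in
theorem tr_top : tr e ⊤ = ⊤ := by
  have : IsIso ((⊤ : Subobject X).arrow ≫ e.hom) := inferInstance
  exact (Subobject.isIso_iff_mk_eq_top _).1 this

theorem nonempty_subquot_tr (Z B : Subobject X) (h : B ≤ Z) (h' : tr e B ≤ tr e Z) :
    Nonempty (SpSeq.subquot Z B h ≅ SpSeq.subquot (tr e Z) (tr e B) h') := by
  refine ⟨cokernel.mapIso _ _ (Subobject.underlyingIso (B.arrow ≫ e.hom)).symm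
    (Subobject.underlyingIso (Z.arrow ≫ e.hom)).symm ?_⟩
  rw [← cancel_mono (tr e Z).arrow, Category.assoc, Category.assoc, Subobject.ofLE_arrow]
  change B.ofLE Z h ≫ (Subobject.underlyingIso (Z.arrow ≫ e.hom)).inv ≫ (Subobject.mk (Z.arrow ≫ e.hom)).arrow =
    (Subobject.underlyingIso (B.arrow ≫ e.hom)).inv ≫ (Subobject.mk (B.arrow ≫ e.hom)).arrow
  rw [Subobject.underlyingIso_arrow, Subobject.underlyingIso_arrow]
  simp

/-- Transport of abutment data along isomorphisms of the abutment objects. -/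
theorem exists_abutment_iso {r₀ : ℤ} {E : CohomologicalSpectralSequence C r₀} {H H' : ℤ → C}
    (a : SpSeq.Abutment E H) (ha : ∀ n, a.IsFinite n) (e : ∀ n, Nonempty (H n ≅ H' n)) :
    ∃ a' : SpSeq.Abutment E H', ∀ n, a'.IsFinite n := by
  refine ⟨{ fil := fun n p => tr (e n).some (a.fil n p)
            anti := fun n p q h => tr_mono _ (a.anti n h)
            rk := a.rk
            stat := a.stat
            β := fun pq => a.β pq ≪≫ (nonempty_subquot_tr (e (pq.1 + pq.2)).some _ _ _ _).some }, fun n => ⟨?_, ?_⟩⟩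
  · obtain ⟨p, hp⟩ := (ha n).1
    have hp' : a.fil n p = ⊤ := hp
    exact ⟨p, (congrArg (tr (e n).some) hp').trans (tr_top _)⟩
  · obtain ⟨p, hp⟩ := (ha n).2
    have hp' : a.fil n p = ⊥ := hp
    exact ⟨p, (congrArg (tr (e n).some) hp').trans (tr_bot _)⟩

end Transport

/-- **The `E₁` spectral sequence** of a bounded spectral object, in existence form, with abutment transported to any
family isomorphic to `H^n(⊥ ≤ ⊤)`. -/
theorem exists_spectralSequence_E₁ (Y : SpectralObject C EInt) (hY : IsBdd Y) (H : ℤ → C)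
    (e : ∀ n, Nonempty ((Y.H n).obj (mk₁ (homOfLE (bot_le : (⊥ : EInt) ≤ ⊤))) ≅ H n)) :
    ∃ (E : CohomologicalSpectralSequence C 1) (a : SpSeq.Abutment E H), (∀ n, a.IsFinite n) ∧ SpSeq.IsBounded E ∧
      ∀ p q : ℤ, Nonempty ((E.page 1 le_rfl).X (p, q) ≅
        (Y.H (p + q)).obj (mk₁ (homOfLE (show ((-p - 1 : ℤ) : EInt) ≤ ((-p : ℤ) : EInt) from
          WithBotTop.coe_le_coe.2 (by lia))))) := by
  obtain ⟨a, ha, hb⟩ := exists_abutment Y hY filData₁
  obtain ⟨a', ha'⟩ := exists_abutment_iso a ha e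
  exact ⟨_, a', ha', hb, fun p q => ⟨Y.spectralSequenceFirstPageXIso coreE₁Cohomological (p, q) _ _ rfl rfl
    (p + q) rfl⟩⟩

/-- **The `E₂` spectral sequence** of a bounded spectral object, in existence form, with abutment transported to any
family isomorphic to `H^n(⊥ ≤ ⊤)`. -/
theorem exists_spectralSequence_E₂ (Y : SpectralObject C EInt) (hY : IsBdd Y) (H : ℤ → C)
    (e : ∀ n, Nonempty ((Y.H n).obj (mk₁ (homOfLE (bot_le : (⊥ : EInt) ≤ ⊤))) ≅ H n)) :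
    ∃ (E : CohomologicalSpectralSequence C 2) (a : SpSeq.Abutment E H), (∀ n, a.IsFinite n) ∧ SpSeq.IsBounded E ∧
      ∀ p q : ℤ, Nonempty ((E.page 2 le_rfl).X (p, q) ≅
        (Y.H (p + q)).obj (mk₁ (homOfLE (show ((q : ℤ) : EInt) ≤ ((q + 1 : ℤ) : EInt) from
          WithBotTop.coe_le_coe.2 (by lia))))) := by
  obtain ⟨a, ha, hb⟩ := exists_abutment Y hY filData₂
  obtain ⟨a', ha'⟩ := exists_abutment_iso a ha e
  exact ⟨_, a', ha', hb, fun p q => ⟨Y.spectralSequenceFirstPageXIso SpectralObject.coreE₂Cohomological (p, q) _ _ rfl rfl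
    (p + q) rfl⟩⟩

end K224.SpAbut
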