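import Groth.Agent.EtDesc.K224.Sec
import Groth.Agent.CohTop.K313.DescSS
import Groth.Agent.FibDesc.K31.Cech

/-!
# The descent spectral sequence on a big site

`K` a topology on schemes with `Good K`; `F` a small étale sheaf on `Y` with `R^q (-|_V) (a⁻¹ F) = 0` for `q > 0`;
`τ` an augmented simplicial object of `Over Y` such that the coaugmented alternating cochain complex of `J ∘ τ` is
exact for all injective abelian `K`-sheaves `J`.  Then there is a descent spectral sequence in étale cohomology.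
-/

set_option autoImplicit false
set_option backward.isDefEq.respectTransparency false
set_option backward.isDefEq.respectTransparency.types false

universe w u
open CategoryTheory CategoryTheory.Limits AlgebraicGeometry Opposite ComplexShape

noncomputable section

namespace K224.Desc

open Groth.Agent.Etrest Groth.Agent.Etrest.BigEtSite K343.Basic K343.Res K781.Desc
open K224.Sec

attribute [local instance] isGrothendieckAbelian_AbK

variable {K : GrothendieckTopology Scheme.{u}} {Y : Scheme.{u}}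

/-- Values of sheaves on an augmented simplicial object. -/
abbrev Φ (K : GrothendieckTopology Scheme.{u}) (τ : Dpᵒᵖ ⥤ Over Y) : AbK K Y ⥤ (Dp ⥤ AddCommGrpCat.{u + 1}) :=
  sheafToPresheaf (K.over Y) AddCommGrpCat.{u + 1} ⋙
    (Functor.whiskeringLeft _ _ AddCommGrpCat.{u + 1}).obj τ.rightOp

instance (τ : Dpᵒᵖ ⥤ Over Y) : (Φ K τ).Additive where

/-- The coaugmented cosimplicial complex of an injective resolution. -/
abbrev cx (τ : Dpᵒᵖ ⥤ Over Y) {G : AbK K Y} (I : InjectiveResolution G) :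
    CochainComplex (Dp ⥤ AddCommGrpCat.{u + 1}) ℤ :=
  ((Φ K τ).mapHomologicalComplex (up ℤ)).obj I.cochainComplex

theorem isZero_cx (τ : Dpᵒᵖ ⥤ Over Y) {G : AbK K Y} (I : InjectiveResolution G) (i : ℤ) (hi : i < 0) :
    IsZero ((cx τ I).X i) :=
  (Φ K τ).map_isZero (HomologicalComplex.isZero_extend_X _ embeddingUpNat i (fun j => by
    change (j : ℤ) ≠ i
    lia))

theorem ex_zero {F : Dp ⥤ AddCommGrpCat.{w}} (h : IsZero F) : Ex F where
  inj x _ := eq_zero_of_isZero ((evaluation _ _).obj WithInitial.star |>.map_isZero h) x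
  ex₀ x _ := ⟨0, (map_zero _).trans (eq_zero_of_isZero ((evaluation _ _).obj (ob 0) |>.map_isZero h) x).symm⟩
  ex n x _ := ⟨0, (map_zero _).trans (eq_zero_of_isZero ((evaluation _ _).obj (ob (n + 1)) |>.map_isZero h) x).symm⟩

theorem isDesc_cx (τ : Dpᵒᵖ ⥤ Over Y) (h : ∀ J : AbK K Y, Injective J → Ex ((Φ K τ).obj J)) {G : AbK K Y}
    (I : InjectiveResolution G) : IsDesc (cx τ I) := by
  refine isDesc_of_augExact ⟨0, fun i hi => isZero_cx τ I i hi⟩ fun q => augExact_of_ex ?_
  by_cases hq : q < 0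
  · exact ex_zero (isZero_cx τ I q hq)
  · obtain ⟨n, rfl⟩ := Int.eq_ofNat_of_zero_le (not_lt.1 hq)
    refine h _ ?_
    have := I.injective n
    exact Injective.of_iso (I.cocomplex.extendXIso embeddingUpNat rfl).symm this

theorem isZero_punit : IsZero (AddCommGrpCat.of PUnit.{w + 1}) :=
  AddCommGrpCat.isZero_of_subsingleton _

variable [Good K] [ContK K Y] (F : EtCoh.Ab Y)

omit [Good K] [ContK K Y] in
theorem isZero_homology {G : AbK K Y} (I : InjectiveResolution G) (V : Over Y) (n : ℤ) (hn : n < 0) :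
    IsZero ((((sec K V).mapHomologicalComplex (up ℤ)).obj I.cochainComplex).homology n) :=
  K224.DC.isZero_homology_of_X _ n ((sec K V).map_isZero
    (HomologicalComplex.isZero_extend_X _ embeddingUpNat n (fun j => by
      change (j : ℤ) ≠ n
      lia)))

omit [Good K] [ContK K Y] in
theorem nonempty_sec_iso {G : AbK K Y} (I : InjectiveResolution G) {V V' : Over Y} (e : V ≅ V') :
    Nonempty (((sec K V).mapHomologicalComplex (up ℤ)).obj I.cochainComplex ≅
      ((sec K V').mapHomologicalComplex (up ℤ)).obj I.cochainComplex) :=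
  ⟨(NatIso.mapHomologicalComplex (Functor.isoWhiskerLeft (sheafToPresheaf (K.over Y) AddCommGrpCat.{u + 1})
    ((evaluation (Over Y)ᵒᵖ AddCommGrpCat.{u + 1}).mapIso e.symm.op)) (up ℤ)).app I.cochainComplex⟩

/-- `H^n(Y, id^* F) = H^n(Y, F)`. -/
def hIdIso (n : ℕ) : AddCommGrpCat.of (EtCoh.H Y ((EtCoh.pull (𝟙 Y)).obj F) n) ≅ AddCommGrpCat.of (EtCoh.H Y F n) :=
  (Abelian.extFunctorObj _ n).mapIso ((FppfUnit.pullId Y).app F)

/-- **The descent spectral sequence.** -/
theorem exists_spectralSequence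
    (hv : ∀ (V : Over Y) (q : ℕ), 0 < q → IsZero (((uResK K V.hom).rightDerived q).obj ((aPullK K Y).obj F)))
    (τ : Dpᵒᵖ ⥤ Over Y) (e₀ : Nonempty (τ.obj (op .star) ≅ Over.mk (𝟙 Y)))
    (h : ∀ J : AbK K Y, Injective J → Ex ((Φ K τ).obj J)) (X : ℕ → Over Y)
    (e : ∀ n, Nonempty (τ.obj (op (ob n)) ≅ X n)) :
    ∃ (E : CohomologicalSpectralSequence AddCommGrpCat.{u + 1} 1)
      (a : SpSeq.Abutment E (fun n : ℤ =>
        if 0 ≤ n then AddCommGrpCat.of (EtCoh.H Y F n.toNat) else AddCommGrpCat.of PUnit.{u + 2})),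
      (∀ n, a.IsFinite n) ∧ SpSeq.IsBounded E ∧
      ∀ p q : ℤ, Nonempty ((E.page 1 le_rfl).X (p, q) ≅
        (if 0 ≤ p ∧ 0 ≤ q then
          AddCommGrpCat.of (EtCoh.H (X p.toNat).left ((EtCoh.pull (X p.toNat).hom).obj F) q.toNat)
         else AddCommGrpCat.of PUnit.{u + 2})) := by
  let I : InjectiveResolution ((aPullK K Y).obj F) := InjectiveResolution.of _
  obtain ⟨E, a, ha, hb, hE⟩ := K313.DescSS.exists_E₁ (cx τ I)
    (fun i hi => isZero_cx τ I i hi) (isDesc_cx τ h I) (fun n : ℤ =>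
        if 0 ≤ n then AddCommGrpCat.of (EtCoh.H Y F n.toNat) else AddCommGrpCat.of PUnit.{u + 2}) (fun n => by
      change Nonempty ((((sec K (τ.obj (op .star))).mapHomologicalComplex (up ℤ)).obj I.cochainComplex).homology n ≅ _)
      split_ifs with hn
      · obtain ⟨m, rfl⟩ := Int.eq_ofNat_of_zero_le hn
        obtain ⟨e₀⟩ := e₀
        obtain ⟨e₁⟩ := nonempty_sec_iso I e₀
        obtain ⟨e₂⟩ := nonempty_homology K (Over.mk (𝟙 Y)) F (hv _) I m m rfl
        exact ⟨(HomologicalComplex.homologyFunctor _ (up ℤ) (m : ℤ)).mapIso e₁ ≪≫ e₂ ≪≫ hIdIso F m⟩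
      · exact ⟨(isZero_homology I _ n (not_le.1 hn)).iso isZero_punit⟩)
  refine ⟨E, a, ha, hb, fun p q => ?_⟩
  split_ifs with hpq
  · obtain ⟨e₁⟩ := (hE p q).1 hpq.1
    obtain ⟨p, rfl⟩ := Int.eq_ofNat_of_zero_le hpq.1
    obtain ⟨q, rfl⟩ := Int.eq_ofNat_of_zero_le hpq.2
    have e₁' : (E.page 1 le_rfl).X ((p : ℤ), (q : ℤ)) ≅
      (((sec K (τ.obj (op (ob p)))).mapHomologicalComplex (up ℤ)).obj I.cochainComplex).homology q := e₁
    obtain ⟨e⟩ := e p
    obtain ⟨e₂⟩ := nonempty_sec_iso I e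
    obtain ⟨e₃⟩ := nonempty_homology K (X p) F (hv _) I q q rfl
    exact ⟨e₁' ≪≫ (HomologicalComplex.homologyFunctor _ (up ℤ) (q : ℤ)).mapIso e₂ ≪≫ e₃⟩
  · by_cases hp : 0 ≤ p
    · obtain ⟨e₁⟩ := (hE p q).1 hp
      have hq : q < 0 := by
        by_contra hq
        exact hpq ⟨hp, not_lt.1 hq⟩
      have h1 := isZero_homology I (τ.obj (op (ob p.toNat))) q hq
      exact ⟨e₁ ≪≫ h1.iso isZero_punit⟩
    · exact ⟨((hE p q).2 (not_le.1 hp)).iso isZero_punit⟩

/-- The augmented Cech nerve over `Y`. -/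
abbrev cechS {X : Scheme.{u}} (f : X ⟶ Y) : Dpᵒᵖ ⥤ Over Y :=
  K781.Cech.lift (K781.Cech.nerve f) (𝟙 Y)

/-- The descent spectral sequence of a morphism. -/
theorem exists_spectralSequence_map
    (hv : ∀ (V : Over Y) (q : ℕ), 0 < q → IsZero (((uResK K V.hom).rightDerived q).obj ((aPullK K Y).obj F)))
    {X : Scheme.{u}} (f : X ⟶ Y)
    (h : ∀ J : AbK K Y, Injective J → Ex ((Φ K (cechS f)).obj J)) :
    ∃ (E : CohomologicalSpectralSequence AddCommGrpCat.{u + 1} 1)
      (a : SpSeq.Abutment E (fun n : ℤ =>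
        if 0 ≤ n then AddCommGrpCat.of (EtCoh.H Y F n.toNat) else AddCommGrpCat.of PUnit.{u + 2})),
      (∀ n, a.IsFinite n) ∧ SpSeq.IsBounded E ∧
      ∀ p q : ℤ, Nonempty ((E.page 1 le_rfl).X (p, q) ≅
        (if 0 ≤ p ∧ 0 ≤ q then
          AddCommGrpCat.of (EtCoh.H (widePullback Y (fun _ : Fin (p.toNat + 1) => X) (fun _ => f))
            ((EtCoh.pull (WidePullback.base (fun _ : Fin (p.toNat + 1) => f) :
              widePullback Y (fun _ : Fin (p.toNat + 1) => X) (fun _ => f) ⟶ Y)).obj F) q.toNat)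
         else AddCommGrpCat.of PUnit.{u + 2})) := by
  refine exists_spectralSequence F hv (cechS f) ⟨Over.isoMk (Iso.refl _) ?_⟩ h
    (fun n => Over.mk (WidePullback.base (fun _ : Fin (n + 1) => f) :
              widePullback Y (fun _ : Fin (n + 1) => X) (fun _ => f) ⟶ Y))
    (fun n => ⟨Over.isoMk (Iso.refl _) ?_⟩)
  · change 𝟙 _ ≫ 𝟙 _ = (K781.Cech.nerve f).map (init WithInitial.star).op ≫ 𝟙 Y
    have h1 : (init WithInitial.star : (WithInitial.star : Dp) ⟶ _) = 𝟙 _ :=
      WithInitial.starInitial.hom_ext _ _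
    rw [h1]
    rw [op_id, (K781.Cech.nerve f).map_id]
    rfl
  · change 𝟙 _ ≫ WidePullback.base (fun _ : Fin (n + 1) => f) =
      WidePullback.base (fun _ : Fin (n + 1) => f) ≫ 𝟙 Y
    rw [Category.id_comp, Category.comp_id]

omit [Good K] [ContK K Y] in
/-- Exactness of the rows for a morphism with a section. -/
theorem ex_of_section {X : Scheme.{u}} (f : X ⟶ Y) (s : Y ⟶ X) (hs : s ≫ f = 𝟙 Y) (J : AbK K Y) :
    Ex ((Φ K (cechS f)).obj J) := by
  have hC : K781.Cech.IsCech (cechS f) := K781.Cech.isCech_lift _ (K781.Cech.isCech_nerve f) _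
  let s' : (cechS f).obj (op .star) ⟶ (cechS f).obj (op (ob 0)) :=
    Over.homMk (s ≫ (K781.Cech.nerveZero f).inv) (by
      have h1 : (init WithInitial.star : (WithInitial.star : Dp) ⟶ _) = 𝟙 _ :=
        WithInitial.starInitial.hom_ext _ _
      have h2 : (s ≫ (K781.Cech.nerveZero f).inv) ≫ (K781.Cech.nerve f).map (init (ob 0)).op = 𝟙 Y := by
        rw [Category.assoc, K781.Cech.nerveZero_inv, hs]
      have h3 : (K781.Cech.nerve f).map (init WithInitial.star).op = 𝟙 Y := by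
        rw [h1, op_id, (K781.Cech.nerve f).map_id]
        rfl
      exact (Category.assoc _ _ _).symm.trans (congrArg (fun t => t ≫ 𝟙 Y) (h2.trans h3.symm)))
  have hs' : s' ≫ (cechS f).map (init (ob 0)).op = 𝟙 _ := by
    apply Over.OverMorphism.ext
    change (s ≫ (K781.Cech.nerveZero f).inv) ≫ (K781.Cech.nerve f).map (init (ob 0)).op = _
    rw [Category.assoc, K781.Cech.nerveZero_inv, hs]
    rfl
  obtain ⟨x⟩ := K781.Cech.xco_of_section hC s' hs'
  exact (x.map J.obj).ex

end K224.Desc
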