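import Groth.Agent.FibDesc.K290.Hyp
import Groth.Agent.EtDesc.K224.Desc
import Groth.Agent.HTop.K343.GenTop

/-!
# Exactness of the coaugmented cosimplicial group of an injective sheaf, large sites

`ex_of_LH`: `LH J σ` and `P` an abelian `J`-sheaf, injective as a presheaf, on a large site: `Ex (σ ⋙ P)`.
-/

set_option autoImplicit false
set_option backward.isDefEq.respectTransparency false
set_option backward.isDefEq.respectTransparency.types false

universe w v u

open CategoryTheory CategoryTheory.Limits Opposite ComplexShape AlgebraicGeometry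

noncomputable section

namespace K224.BigEx

open K781.Desc K290.LocEx K290.Hyp Groth.Agent.CohtopB.LocTriv Groth.Agent.CohtopB

section general

variable {C : Type (u + 1)} [Category.{u} C] (J : GrothendieckTopology C)

/-- The topology on the universe lift. -/
def topU : GrothendieckTopology (ULiftHom.{u + 1} C) where
  sieves T := {R | (Sieve.functorPullback (upF C) (X := T.objDown) R : Sieve T.objDown) ∈ J T.objDown}
  top_mem' T := J.top_mem _
  pullback_stable' := by
    intro T T' R g hR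
    exact J.pullback_stable g.down hR
  transitive' := by
    intro T R hR R' h
    refine J.transitive hR _ ?_
    intro Z f hf
    exact h (f := (⟨f⟩ : ULiftHom.objUp Z ⟶ T)) hf

variable {J}

theorem isSheaf_type {F : Cᵒᵖ ⥤ Type w} (hF : Presieve.IsSheaf J F) : Presieve.IsSheaf (topU J) ((dnF C).op ⋙ F) := by
  intro T R hR x hx
  let y : Presieve.FamilyOfElements F (Sieve.functorPullback (upF C) (X := T.objDown) R : Sieve T.objDown).arrows :=
    fun Z f hf => x (⟨f⟩ : ULiftHom.objUp Z ⟶ T) hf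
  have hy : y.Compatible := by
    intro Y₁ Y₂ Z g₁ g₂ f₁ f₂ h₁ h₂ e
    exact hx (⟨g₁⟩ : ULiftHom.objUp Z ⟶ ULiftHom.objUp Y₁) (⟨g₂⟩ : ULiftHom.objUp Z ⟶ ULiftHom.objUp Y₂) h₁ h₂
      (ULift.ext _ _ e)
  obtain ⟨t, ht, ht'⟩ := hF _ hR y hy
  refine ⟨t, fun Z f hf => ht f.down hf, fun s hs => ht' s fun Z f hf => hs (⟨f⟩ : ULiftHom.objUp Z ⟶ T) hf⟩

theorem isSheaf_lift {P : Cᵒᵖ ⥤ AddCommGrpCat.{u + 1}} (hP : Presheaf.IsSheaf J P) :
    Presheaf.IsSheaf (topU J) ((dnF C).op ⋙ P) := by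
  rw [Presheaf.isSheaf_iff_isSheaf_forget _ _ (forget AddCommGrpCat.{u + 1}), isSheaf_iff_isSheaf_of_type] at hP ⊢
  exact isSheaf_type hP

theorem injective_lift {P : Cᵒᵖ ⥤ AddCommGrpCat.{u + 1}} (hP : Injective P) : Injective ((dnF C).op ⋙ P) := by
  let e : (Cᵒᵖ ⥤ AddCommGrpCat.{u + 1}) ≌ ((ULiftHom.{u + 1} C)ᵒᵖ ⥤ AddCommGrpCat.{u + 1}) :=
    (ULiftHom.equiv (C := C)).op.congrLeft
  exact (e.map_injective_iff P).2 hP

theorem loc_lift {V : ULiftHom.{u + 1} C} {p : ∀ ⦃W : ULiftHom.{u + 1} C⦄, (W ⟶ V) → Prop}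
    (h : Loc J V.objDown (fun W g => p (⟨g⟩ : ULiftHom.objUp W ⟶ V))) : Loc (topU J) V p := by
  obtain ⟨S, hS, h⟩ := h
  exact ⟨Sieve.functorPullback (dnF C) S, hS, fun _ g hg => h g.down hg⟩

theorem LH_lift {σ : Dp ⥤ Cᵒᵖ} (h : LH J σ) : LH (topU J) (σ ⋙ (upF C).op) where
  zero V e := loc_lift ((h.zero (V := V.objDown) e.down).mono fun _ _ ⟨z, hz⟩ => ⟨⟨z⟩, ULift.ext _ _ hz⟩)
  one V y₀ y₁ hy := loc_lift ((h.one (V := V.objDown) y₀.down y₁.down (congrArg ULift.down hy)).mono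
    fun _ _ ⟨z, hz0, hz1⟩ => ⟨⟨z⟩, ULift.ext _ _ hz0, ULift.ext _ _ hz1⟩)
  succ _ V y hy := loc_lift ((h.succ (V := V.objDown) (fun i => (y i).down)
    (fun i j hij => congrArg ULift.down (hy i j hij))).mono fun _ _ ⟨z, hz⟩ => ⟨⟨z⟩, fun i => ULift.ext _ _ (hz i)⟩)

/-- Exactness for sheaves injective as presheaves. -/
theorem ex_of_LH {σ : Dp ⥤ Cᵒᵖ} (h : LH J σ) {P : Cᵒᵖ ⥤ AddCommGrpCat.{u + 1}} (hP : Presheaf.IsSheaf J P)
    (hI : Injective P) : Ex (σ ⋙ P) := by
  have : Injective ((dnF C).op ⋙ P) := injective_lift hI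
  exact (LH_lift h).ex _ (isSheaf_lift hP)

/-- `Ex` is invariant under isomorphisms. -/
theorem ex_of_iso {F G : Dp ⥤ AddCommGrpCat.{w}} (e : F ≅ G) (h : Ex F) : Ex G := by
  rw [← augExact_iff_ex] at h ⊢
  have h' : QuasiIso ((aug AddCommGrpCat.{w}).app F) := h
  have h1 := (aug AddCommGrpCat.{w}).naturality e.inv
  have h2 : (aug AddCommGrpCat.{w}).app G = 
      (eF AddCommGrpCat.{w} ⋙ HomologicalComplex.single AddCommGrpCat.{w} (up ℤ) 0).map e.inv ≫
        (aug AddCommGrpCat.{w}).app F ≫ (rF AddCommGrpCat.{w} ⋙ cf AddCommGrpCat.{w}).map e.hom := by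
    rw [← Category.assoc, h1, Category.assoc, ← CategoryTheory.Functor.map_comp, Iso.inv_hom_id,
      CategoryTheory.Functor.map_id, Category.comp_id]
  change QuasiIso ((aug AddCommGrpCat.{w}).app G)
  rw [h2]
  infer_instance

end general

section overY

open K343.Basic K343.Topo K343.GenTop K224.Desc

attribute [local instance] isGrothendieckAbelian_AbK

variable {K : GrothendieckTopology Scheme.{u}} {Y : Scheme.{u}}

theorem injective_obj (J : AbK K Y) (_ : Injective J) : Injective J.obj :=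
  Injective.injective_of_adjoint (sheafificationAdjunction (K.over Y) AddCommGrpCat.{u + 1}) J

theorem ex_of_LH_over (τ : Dpᵒᵖ ⥤ Over Y) (h : LH (K.over Y) τ.rightOp) (J : AbK K Y) (hJ : Injective J) :
    Ex ((Φ K τ).obj J) := ex_of_LH h J.property (injective_obj J hJ)

variable (K Y) in
/-- One-member coverings. -/
def WK : MorphismProperty (Over Y) := fun _ V g => Sieve.generate (Presieve.singleton g.left) ∈ K V.left

theorem generate_comp_mem {U V W : Scheme.{u}} (f : U ⟶ V) (g : V ⟶ W)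
    (hf : Sieve.generate (Presieve.singleton f) ∈ K V) (hg : Sieve.generate (Presieve.singleton g) ∈ K W) :
    Sieve.generate (Presieve.singleton (f ≫ g)) ∈ K W := by
  refine K.transitive hg _ ?_
  rintro Z k ⟨_, l, _, ⟨⟩, rfl⟩
  have h1 := K.pullback_stable l hf
  refine K.superset_covering ?_ h1
  rintro Z' k' ⟨_, l', _, ⟨⟩, hl'⟩
  refine ⟨_, l', _, ⟨⟩, ?_⟩
  rw [← Category.assoc, hl', Category.assoc]

theorem generate_of_isIso {U V : Scheme.{u}} (f : U ⟶ V) [IsIso f] :
    Sieve.generate (Presieve.singleton f) ∈ K V := by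
  have h : Sieve.generate (Presieve.singleton f) = ⊤ :=
    Sieve.id_mem_iff_eq_top.1 ⟨_, inv f, f, ⟨⟩, IsIso.inv_hom_id f⟩
  rw [h]
  exact K.top_mem _

theorem generate_of_isPullback {U V U' V' : Scheme.{u}} {f : U ⟶ V} {g : V' ⟶ V} {f' : U' ⟶ V'} {g' : U' ⟶ U}
    (h : IsPullback g' f' f g) (hf : Sieve.generate (Presieve.singleton f) ∈ K V) :
    Sieve.generate (Presieve.singleton f') ∈ K V' := by
  refine K.superset_covering ?_ (K.pullback_stable g hf)
  rintro Z k ⟨_, l, _, ⟨⟩, hl⟩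
  exact ⟨_, h.lift l k hl, _, ⟨⟩, h.lift_snd _ _ _⟩

instance : (WK K Y).IsStableUnderBaseChange where
  of_isPullback {A B C D} f g f' g' h hg := by
    exact generate_of_isPullback (h.map (Over.forget Y)) hg

instance : (WK K Y).IsMultiplicative where
  id_mem V := generate_of_isIso (𝟙 V.left)
  comp_mem f g hf hg := generate_comp_mem f.left g.left hf hg

theorem loc_of_WK {V V' : Over Y} {p : ∀ ⦃W : Over Y⦄, (W ⟶ V) → Prop}
    (hp : ∀ (W W' : Over Y) (g : W ⟶ V) (h : W' ⟶ W), p g → p (h ≫ g))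
    (g : V' ⟶ V) (hg : WK K Y g) (h : p g) : Loc (K.over Y) V p := by
  refine ⟨ov V (Sieve.generate (Presieve.singleton g.left)), ov_mem K V _ hg, ?_⟩
  rintro W k ⟨_, l, _, ⟨⟩, hl⟩
  let l' : W ⟶ V' := Over.homMk l (by rw [← Over.w g, ← Category.assoc, hl, Over.w])
  have h1 : k = l' ≫ g := by
    ext
    exact hl.symm
  rw [h1]
  exact hp _ _ _ _ h

theorem LH_of_LHW {σ : Dp ⥤ (Over Y)ᵒᵖ} (h : LHW (WK K Y) σ) : LH (K.over Y) σ where
  zero V e := by
    obtain ⟨V', g, hg, z, hz⟩ := h.zero e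
    refine loc_of_WK (fun V' V'' g k ⟨z, hz⟩ => ⟨k ≫ z, ?_⟩) g hg ⟨z, hz⟩
    rw [Category.assoc, hz, Category.assoc]
  one V y₀ y₁ hy := by
    obtain ⟨V', g, hg, z, hz0, hz1⟩ := h.one y₀ y₁ hy
    refine loc_of_WK (fun V' V'' g k ⟨z, hz0, hz1⟩ => ⟨k ≫ z, ?_, ?_⟩) g hg ⟨z, hz0, hz1⟩
    · rw [Category.assoc, hz0, Category.assoc]
    · rw [Category.assoc, hz1, Category.assoc]
  succ n V y hy := by
    obtain ⟨V', g, hg, z, hz⟩ := h.succ y hy
    refine loc_of_WK (fun V' V'' g k ⟨z, hz⟩ => ⟨k ≫ z, fun i => ?_⟩) g hg ⟨z, hz⟩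
    rw [Category.assoc, hz, Category.assoc]

/-- Exactness of the rows of the Cech nerve of a covering. -/
theorem ex_cechS {X : Scheme.{u}} (f : X ⟶ Y) (hf : Sieve.generate (Presieve.singleton f) ∈ K Y)
    (J : AbK K Y) (hJ : Injective J) : Ex ((Φ K (cechS f)).obj J) := by
  obtain ⟨φ, -, -⟩ := K781.Cech.exists_nerve_over_iso (K343.BigAdj.toTop f)
  have h1 : Ex ((Φ K (K781.Cech.nerve (K343.BigAdj.toTop f))).obj J) := by
    refine ex_of_LH_over _ (LH_of_LHW ?_) J hJ
    exact lhw_cech (WK K Y) (f := K343.BigAdj.toTop f) hf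
  refine ex_of_iso ?_ h1
  exact Functor.isoWhiskerRight (NatIso.ofComponents (fun x => (φ.app (op x)).op.symm) (fun {x y} g => by
    apply Quiver.Hom.unop_inj
    have := φ.inv.naturality g.op
    exact this.symm)) J.obj

/-- The descent spectral sequence of a hypercovering. -/
theorem exists_spectralSequence_of_cosk [Good K] [ContK K Y] (F : EtCoh.Ab Y)
    (hv : ∀ (V : Over Y) (q : ℕ), 0 < q → IsZero (((uResK K V.hom).rightDerived q).obj ((aPullK K Y).obj F)))
    [∀ (n : ℕ) (G : (SimplexCategory.Truncated n)ᵒᵖ ⥤ Over Y),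
      (SimplexCategory.Truncated.inclusion n).op.HasRightKanExtension G]
    (L : SimplicialObject (Over Y))
    (h0 : Sieve.generate (Presieve.singleton (L.obj (op (SimplexCategory.mk 0))).hom) ∈ K Y)
    (hn : ∀ n : ℕ, Sieve.generate (Presieve.singleton
      (((SimplicialObject.coskAdj n).unit.app L).app (op (SimplexCategory.mk (n + 1)))).left) ∈ K _) :
    ∃ (E : CohomologicalSpectralSequence AddCommGrpCat.{u + 1} 1)
      (a : SpSeq.Abutment E (fun n : ℤ =>
        if 0 ≤ n then AddCommGrpCat.of (EtCoh.H Y F n.toNat) else AddCommGrpCat.of PUnit.{u + 2})),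
      (∀ n, a.IsFinite n) ∧ SpSeq.IsBounded E ∧
      ∀ p q : ℤ, Nonempty ((E.page 1 le_rfl).X (p, q) ≅
        (if 0 ≤ p ∧ 0 ≤ q then
          AddCommGrpCat.of (EtCoh.H (L.obj (op (SimplexCategory.mk p.toNat))).left
            ((EtCoh.pull (L.obj (op (SimplexCategory.mk p.toNat))).hom).obj F) q.toNat)
         else AddCommGrpCat.of PUnit.{u + 2})) := by
  have h1 : LHW (WK K Y) (aug1 L Over.mkIdTerminal) := lhw_of_cosk (WK K Y) Over.mkIdTerminal L (by
      have h2 : (Over.mkIdTerminal.from (L.obj (op (SimplexCategory.mk 0)))).left =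
          (L.obj (op (SimplexCategory.mk 0))).hom := by
        have := Over.w (Over.mkIdTerminal.from (L.obj (op (SimplexCategory.mk 0))))
        exact (Category.comp_id _).symm.trans this
      change Sieve.generate (Presieve.singleton _) ∈ K _
      rw [h2]
      exact h0) hn
  exact exists_spectralSequence F hv (AugmentedSimplexCategory.equivAugmentedSimplicialObject.inverse.obj
    (SimplicialObject.augment L (Over.mk (𝟙 Y)) (Over.mkIdTerminal.from _)
      (fun _ _ _ => Over.mkIdTerminal.hom_ext _ _))) ⟨Iso.refl _⟩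
    (fun J hJ => ex_of_LH_over _ (LH_of_LHW h1) J hJ)
    (fun n => L.obj (op (SimplexCategory.mk n))) (fun n => ⟨Iso.refl _⟩)

end overY

end K224.BigEx
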