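import Mathlib.CategoryTheory.Sites.Over
import Mathlib.CategoryTheory.Functor.Flat
import Mathlib.CategoryTheory.Abelian.GrothendieckAxioms.Basic
import Mathlib.CategoryTheory.Sites.Pullback
import Mathlib.CategoryTheory.Sites.Abelian
import Mathlib.CategoryTheory.Limits.Final

/-!
The left adjoint `j_!` of restriction to a localized site `C/U` is exact; version for large sites
(after `Groth.Agent.CohtopA.OverShriek`).
-/

set_option autoImplicit false
set_option linter.unusedSectionVars false

universe w' w v u

open CategoryTheory Limits Opposite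

namespace K224.BigShriek

variable {C : Type u} [Category.{v} C] (U : C) (V : C)

/-- `Discrete (V ⟶ U) ⥤ CostructuredArrow (Over.forget U).op (op V)`. -/
def incl : Discrete (V ⟶ U) ⥤ CostructuredArrow (Over.forget U).op (op V) :=
  Discrete.functor (fun f => CostructuredArrow.mk (S := (Over.forget U).op)
    (Y := op (Over.mk f)) (𝟙 (op V)))

lemma hom_left_eq (d : CostructuredArrow (Over.forget U).op (op V)) (f : V ⟶ U)
    (g : d ⟶ (incl U V).obj ⟨f⟩) : g.left.unop.left = d.hom.unop := by
  have h := congrArg Quiver.Hom.unop (CostructuredArrow.w g)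
  refine Eq.trans ?_ h
  exact (Category.id_comp _).symm

lemma eq_comp (d : CostructuredArrow (Over.forget U).op (op V)) (f : V ⟶ U)
    (g : d ⟶ (incl U V).obj ⟨f⟩) : f = d.hom.unop ≫ d.left.unop.hom := by
  rw [← hom_left_eq U V d f g]
  exact (Over.w g.left.unop).symm

/-- the distinguished morphism. -/
def ptHom (d : CostructuredArrow (Over.forget U).op (op V)) :
    d ⟶ (incl U V).obj ⟨d.hom.unop ≫ d.left.unop.hom⟩ :=
  CostructuredArrow.homMk (Quiver.Hom.op (Over.homMk d.hom.unop rfl)) (Category.comp_id _)

lemma hom_ext' (d : CostructuredArrow (Over.forget U).op (op V)) (f : V ⟶ U)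
    (g g' : d ⟶ (incl U V).obj ⟨f⟩) : g = g' := by
  ext
  apply Quiver.Hom.unop_inj
  ext
  rw [hom_left_eq U V d f g, hom_left_eq U V d f g']

instance : (incl U V).Final where
  out d := by
    have : Nonempty (StructuredArrow d (incl U V)) := ⟨StructuredArrow.mk (ptHom U V d)⟩
    refine zigzag_isConnected ?_
    intro X Y
    obtain ⟨⟨⟨⟩⟩, ⟨f⟩, g⟩ := X
    obtain ⟨⟨⟨⟩⟩, ⟨f'⟩, g'⟩ := Y
    obtain rfl := eq_comp U V d f g
    obtain rfl := eq_comp U V d f' g'
    obtain rfl := hom_ext' U V d _ g g'
    exact Relation.ReflTransGen.refl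

variable (A : Type w) [Category.{w'} A] [HasFiniteLimits A]
  [∀ V : Cᵒᵖ, HasColimitsOfShape (CostructuredArrow (Over.forget U).op V) A]

theorem hasExact [HasColimitsOfShape (Discrete (V ⟶ U)) A] [HasExactColimitsOfShape (Discrete (V ⟶ U)) A] :
    HasExactColimitsOfShape (CostructuredArrow (Over.forget U).op (op V)) A :=
  hasExactColimitsOfShape_of_final A (incl U V)

instance hasLan (F : (Over U)ᵒᵖ ⥤ A) : (Over.forget U).op.HasLeftKanExtension F := inferInstance

section

variable {C₁ : Type*} [Category* C₁] {D : Type*} [Category* D] (E : Type*) [Category* E]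

set_option backward.defeqAttrib.useBackward true in
set_option backward.isDefEq.respectTransparency false in
/-- The evaluation of `F.lan` at `X` is the colimit over the costructured arrows over `X`
(Mathlib's proof, without smallness conditions). -/
noncomputable def lanEvaluationIsoColim (F : C₁ ⥤ D) (X : D)
    [∀ X : D, HasColimitsOfShape (CostructuredArrow F X) E] :
    F.lan ⋙ (evaluation D E).obj X ≅
      (Functor.whiskeringLeft _ _ E).obj (CostructuredArrow.proj F X) ⋙ colim :=
  NatIso.ofComponents (fun G =>
    IsColimit.coconePointUniqueUpToIso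
    (Functor.isPointwiseLeftKanExtensionLeftKanExtensionUnit F G X)
    (colimit.isColimit _)) (fun {G₁ G₂} φ => by
      apply (Functor.isPointwiseLeftKanExtensionLeftKanExtensionUnit F G₁ X).hom_ext
      intro T
      have h₁ := fun (G : C₁ ⥤ E) => IsColimit.comp_coconePointUniqueUpToIso_hom
        (Functor.isPointwiseLeftKanExtensionLeftKanExtensionUnit F G X) (colimit.isColimit _) T
      have h₂ := congr_app (F.lanUnit.naturality φ) T.left
      dsimp at h₁ h₂ ⊢
      simp only [Category.assoc] at h₁ ⊢
      simp only [Functor.lan, Functor.lanUnit] at h₂ ⊢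
      rw [reassoc_of% h₁, NatTrans.naturality_assoc, ← reassoc_of% h₂, h₁,
        ι_colimMap, Functor.whiskerLeft_app]
      rfl)

end

theorem preservesFiniteLimits_lan [∀ V : C, HasColimitsOfShape (Discrete (V ⟶ U)) A]
    [∀ V : C, HasExactColimitsOfShape (Discrete (V ⟶ U)) A] : PreservesFiniteLimits
    ((Over.forget U).op.lan : _ ⥤ Cᵒᵖ ⥤ A) := by
  constructor
  intro J _ _
  apply preservesLimitsOfShape_of_evaluation ((Over.forget U).op.lan : ((Over U)ᵒᵖ ⥤ A) ⥤ Cᵒᵖ ⥤ A) J
  intro K
  have := hasExact U K.unop A
  have : PreservesFiniteLimits (colim : (CostructuredArrow (Over.forget U).op K ⥤ A) ⥤ A) :=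
    this.preservesFiniteLimits
  exact preservesLimitsOfShape_of_natIso (lanEvaluationIsoColim _ _ _).symm

variable (J : GrothendieckTopology C) [HasSheafify J A]

/-- `j_!` on a site is exact. -/
theorem exists_leftAdjoint [∀ V : C, HasColimitsOfShape (Discrete (V ⟶ U)) A]
    [∀ V : C, HasExactColimitsOfShape (Discrete (V ⟶ U)) A] :
    ∃ (L : Sheaf (J.over U) A ⥤ Sheaf J A),
      Nonempty (L ⊣ J.overPullback A U) ∧ PreservesFiniteLimits L :=
  ⟨Functor.sheafPullbackConstruction.sheafPullback (Over.forget U) A (J.over U) J,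
    ⟨Functor.sheafPullbackConstruction.sheafAdjunctionContinuous _ _ _ _⟩, by
      have := preservesFiniteLimits_lan U A
      have : PreservesFiniteLimits ((Over.forget U).op.lan ⋙ presheafToSheaf J A) :=
        comp_preservesFiniteLimits _ _
      apply comp_preservesFiniteLimits⟩

end K224.BigShriek
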