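import Groth.Agent.EtDesc.K224.BigShriek
import Groth.Agent.SiteCmp.K579.Abs2
import Groth.Prelude.Def_EtFppf
import Groth.Agent.CohtopA.KInjRes2
import Mathlib.CategoryTheory.Sites.DenseSubsite.SheafEquiv
import Mathlib.CategoryTheory.Sites.CoverLifting

/-!
# Big sites of schemes for an arbitrary topology on schemes

For a Grothendieck topology `K` on `Scheme.{u}`:
* `Sh K X` abelian sheaves on `Over X`, values in `AddCommGrpCat.{u+1}`.
* `res K f`, `pf K f` restriction and direct image along `f : X ⟶ Y`, `adj K f : res K f ⊣ pf K f`.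
* `eps h X : Sh K X ⥤ Sh K' X` for `h : K' ≤ K`, with exact left adjoint `epsInv`.
-/

set_option autoImplicit false
universe u
open CategoryTheory CategoryTheory.Limits Opposite AlgebraicGeometry

noncomputable section
namespace K224.BigTop

open Groth.Agent

variable (K : GrothendieckTopology Scheme.{u})

/-- Abelian sheaves on the big site. -/
abbrev Sh (X : Scheme.{u}) : Type (u + 2) := Sheaf (K.over X) AddCommGrpCat.{u + 1}

instance (X : Scheme.{u}) : IsGrothendieckAbelian.{u + 1} (Sh K X) := by
  have : EssentiallySmall.{u + 1} (Over X) := inferInstance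
  exact Sheaf.isGrothendieckAbelian_of_essentiallySmall _ _

instance (X : Scheme.{u}) : EnoughInjectives (Sh K X) := inferInstance

instance (X : Scheme.{u}) : Etrest.RDer3.HasKInj (Sh K X) where
  out L := by
    obtain ⟨I, f, h1, h2, -, -⟩ := CohtopA.KInjRes2.exists_kInjective_resolution.{u + 1} L
    exact ⟨I, f, h1, h2⟩

variable {X Y : Scheme.{u}} (f : X ⟶ Y)

/-- Restriction. -/
abbrev res : Sh K Y ⥤ Sh K X :=
  (Over.map f).sheafPushforwardContinuous AddCommGrpCat.{u + 1} (K.over X) (K.over Y)

/-- Direct image. -/
abbrev pf : Sh K X ⥤ Sh K Y :=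
  (Over.pullback f).sheafPushforwardContinuous AddCommGrpCat.{u + 1} (K.over Y) (K.over X)

/-- `V ×_Y X ⟶ V` over `Y`. -/
abbrev cnt (V : Over Y) : (Over.map f).obj ((Over.pullback f).obj V) ⟶ V := (Over.mapPullbackAdj f).counit.app V

/-- `V ⟶ V ×_Y X` over `X`. -/
abbrev unt (V : Over X) : V ⟶ (Over.pullback f).obj ((Over.map f).obj V) := (Over.mapPullbackAdj f).unit.app V

/-- The adjunction between restriction and direct image. -/
def adj : res K f ⊣ pf K f where
  unit :=
    { app G := ⟨{ app := fun V => G.obj.map (cnt f V.unop).op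
                  naturality := fun V W g => by
                    have h := (Over.mapPullbackAdj f).counit.naturality g.unop
                    exact (G.obj.map_comp _ _).symm.trans ((congrArg (fun k => G.obj.map k.op) h).symm.trans
                      (G.obj.map_comp _ _)) }⟩
      naturality G G' φ := by
        apply ObjectProperty.hom_ext
        ext V : 2
        exact (φ.hom.naturality (cnt f V.unop).op).symm }
  counit :=
    { app G := ⟨{ app := fun V => G.obj.map (unt f V.unop).op
                  naturality := fun V W g => by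
                    have h := (Over.mapPullbackAdj f).unit.naturality g.unop
                    exact (G.obj.map_comp _ _).symm.trans ((congrArg (fun k => G.obj.map k.op) h).symm.trans
                      (G.obj.map_comp _ _)) }⟩
      naturality G G' φ := by
        apply ObjectProperty.hom_ext
        ext V : 2
        exact (φ.hom.naturality (unt f V.unop).op).symm }
  left_triangle_components G := by
    apply ObjectProperty.hom_ext
    ext V : 2
    have h := (Over.mapPullbackAdj f).left_triangle_components V.unop
    exact (G.obj.map_comp _ _).symm.trans ((congrArg (fun k => G.obj.map k.op) h).trans (G.obj.map_id _))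
  right_triangle_components G := by
    apply ObjectProperty.hom_ext
    ext V : 2
    have h := (Over.mapPullbackAdj f).right_triangle_components V.unop
    exact (G.obj.map_comp _ _).symm.trans ((congrArg (fun k => G.obj.map k.op) h).trans (G.obj.map_id _))

theorem adj_unit_app (G : Sh K Y) (V : Over Y) :
    ((adj K f).unit.app G).hom.app (op V) = G.obj.map (cnt f V).op := rfl

instance : PreservesFiniteColimits (res K f) := by
  have := (adj K f).leftAdjoint_preservesColimits
  infer_instance

instance : PreservesFiniteLimits (pf K f) := by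
  have := (adj K f).rightAdjoint_preservesLimits
  infer_instance

theorem exactDiscrete (α : Type u) : HasExactColimitsOfShape (Discrete α) AddCommGrpCat.{u + 1} := by
  have : AB4OfSize.{u + 1} AddCommGrpCat.{u + 1} := AB4.of_AB5 _
  have : AB4OfSize.{u} AddCommGrpCat.{u + 1} := AB4OfSize_shrink.{u, u + 1} _
  infer_instance

/-- The left adjoint of restriction is exact. -/
theorem exists_leftAdjoint :
    ∃ (L : Sh K X ⥤ Sh K Y), Nonempty (L ⊣ res K f) ∧ PreservesFiniteLimits L := by
  have (V : Over Y) := exactDiscrete.{u} (V ⟶ Over.mk f)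
  obtain ⟨L₀, ⟨adj₀⟩, h₀⟩ := BigShriek.exists_leftAdjoint (C := Over Y) (Over.mk f)
    AddCommGrpCat.{u + 1} (K.over Y)
  have hd : (Over.mk f).iteratedSliceBackward.IsDenseSubsite (K.over X)
      ((K.over Y).over (Over.mk f)) :=
    inferInstanceAs ((Over.mk f).iteratedSliceEquiv.inverse.IsDenseSubsite (K.over _) _)
  let R : Sheaf ((K.over Y).over (Over.mk f)) AddCommGrpCat.{u + 1} ⥤ Sh K X :=
    (Over.mk f).iteratedSliceBackward.sheafPushforwardContinuous AddCommGrpCat.{u + 1} (K.over X)
      ((K.over Y).over (Over.mk f))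
  have hR : R.IsEquivalence := inferInstanceAs
    ((Over.mk f).iteratedSliceBackward.sheafPushforwardContinuous AddCommGrpCat.{u + 1} (K.over X)
      ((K.over Y).over (Over.mk f))).IsEquivalence
  have adj₁ : R.inv ⋙ L₀ ⊣ (K.over Y).overPullback AddCommGrpCat.{u + 1} (Over.mk f) ⋙ R :=
    (R.asEquivalence.symm.toAdjunction).comp adj₀
  refine ⟨R.inv ⋙ L₀, ⟨adj₁⟩, comp_preservesFiniteLimits _ _⟩

instance : PreservesFiniteLimits (res K f) := by
  obtain ⟨L, ⟨a⟩, -⟩ := exists_leftAdjoint K f
  have := a.rightAdjoint_preservesLimits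
  infer_instance

instance additive_res : (res K f).Additive where

instance additive_pf : (pf K f).Additive where

lemma injective_res (I : Sh K Y) (hI : Injective I) : Injective ((res K f).obj I) := by
  obtain ⟨L, ⟨a⟩, hL⟩ := exists_leftAdjoint K f
  have : L.PreservesMonomorphisms := inferInstance
  exact Injective.injective_of_adjoint a I

lemma injective_pf (I : Sh K X) (hI : Injective I) : Injective ((pf K f).obj I) := by
  have : (res K f).PreservesMonomorphisms := inferInstance
  exact Injective.injective_of_adjoint (adj K f) I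

lemma isKInjective_res (I : CochainComplex (Sh K Y) ℤ) (hI : I.IsKInjective) :
    CochainComplex.IsKInjective (((res K f).mapHomologicalComplex (.up ℤ)).obj I) := by
  obtain ⟨L, ⟨a⟩, hL⟩ := exists_leftAdjoint K f
  have : PreservesFiniteColimits L := by
    have := a.leftAdjoint_preservesColimits
    infer_instance
  have : L.Additive := a.left_adjoint_additive
  exact S0481.aux (res K f) L a I hI

lemma isKInjective_pf (I : CochainComplex (Sh K X) ℤ) (hI : I.IsKInjective) :
    CochainComplex.IsKInjective (((pf K f).mapHomologicalComplex (.up ℤ)).obj I) :=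
  S0481.aux (pf K f) (res K f) (adj K f) I hI

/-- `f_* f^*`. -/
abbrev mon : Sh K Y ⥤ Sh K Y := res K f ⋙ pf K f

instance : (mon K f).Additive := inferInstance

lemma isKInjective_mon (I : CochainComplex (Sh K Y) ℤ) (hI : I.IsKInjective) :
    CochainComplex.IsKInjective (((mon K f).mapHomologicalComplex (.up ℤ)).obj I) :=
  isKInjective_pf K f _ (isKInjective_res K f I hI)

variable {K}

/-- Sections of a `K`-sheaf on `Over Y` are detected on sieves covering for `K`. -/
theorem eq_zero_of_sieve (G : Sh K Y) (V : Over Y) (s : G.obj.obj (op V)) (S : Sieve V.left) (hS : S ∈ K V.left)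
    (h : ∀ (W : Over Y) (g : W ⟶ V), S.arrows g.left → G.obj.map g.op s = 0) : s = 0 := by
  have hS' : (Sieve.overEquiv V).symm S ∈ (K.over Y) V := by
    rw [GrothendieckTopology.mem_over_iff, OrderIso.apply_symm_apply]
    exact hS
  have hsep := ((isSheaf_iff_isSheaf_of_type _ _).1
    ((sheafCompose (K.over Y) (forget AddCommGrpCat.{u + 1})).obj G).property).isSeparated _ hS'
  refine hsep.ext ?_
  intro W g hg
  have hg' : S.arrows g.left := (Sieve.overEquiv_symm_iff _ g).1 hg
  exact (h W g hg').trans (map_zero (G.obj.map g.op).hom).symm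

/-- `f` is a covering for `K`. -/
def IsCov (K : GrothendieckTopology Scheme.{u}) {X Y : Scheme.{u}} (f : X ⟶ Y) : Prop :=
  Sieve.generate (Presieve.singleton f) ∈ K Y

/-- If `f` is a covering then the unit `F ⟶ f_* f^*` is a monomorphism. -/
theorem mono_unit_of_cover (hf : IsCov K f) (F : Sh K Y) : Mono ((adj K f).unit.app F) := by
  have h1 : Mono ((adj K f).unit.app F).hom := by
    have h2 : ∀ V, Mono (((adj K f).unit.app F).hom.app V) := by
      rintro ⟨V⟩
      rw [AddCommGrpCat.mono_iff_injective, injective_iff_map_eq_zero]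
      intro s hs
      rw [adj_unit_app] at hs
      refine eq_zero_of_sieve F V s ((Sieve.generate (Presieve.singleton f)).pullback V.hom)
        (K.pullback_stable V.hom hf) ?_
      rintro W g ⟨Z, a, b, ⟨⟩, hab⟩
      have hab' : a ≫ f = g.left ≫ V.hom := hab
      let l : W ⟶ (Over.map f).obj ((Over.pullback f).obj V) :=
        Over.homMk (pullback.lift g.left a hab'.symm) (by
          change pullback.lift g.left a hab'.symm ≫ pullback.snd V.hom f ≫ f = W.hom
          rw [pullback.lift_snd_assoc, hab', Over.w g])
      have hl : l ≫ cnt f V = g := by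
        ext
        change pullback.lift g.left a hab'.symm ≫ ((Over.mapPullbackAdj f).counit.app V).left = g.left
        rw [Over.mapPullbackAdj_counit_app]
        exact pullback.lift_fst _ _ _
      rw [← hl, op_comp, F.obj.map_comp]
      exact (congrArg (F.obj.map l.op) hs).trans (map_zero (F.obj.map l.op).hom)
    exact NatTrans.mono_of_mono_app _
  exact (sheafToPresheaf (K.over Y) AddCommGrpCat.{u + 1}).mono_of_mono_map h1

/-- If the unit `G ⟶ f_* f^* G` is a monomorphism, a section of `G` over `Y` vanishing on `X` is zero. -/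
theorem eq_zero_of_mono_unit (G : Sh K Y) (h : Mono ((adj K f).unit.app G)) (s : G.obj.obj (op (Over.mk (𝟙 Y))))
    (hs : G.obj.map (Over.homMk f : Over.mk f ⟶ Over.mk (𝟙 Y)).op s = 0) : s = 0 := by
  have h1 : Mono (((adj K f).unit.app G).hom.app (op (Over.mk (𝟙 Y)))) := by
    have h2 : Mono ((adj K f).unit.app G).hom :=
      inferInstanceAs (Mono ((sheafToPresheaf (K.over Y) AddCommGrpCat.{u + 1}).map ((adj K f).unit.app G)))
    infer_instance
  rw [AddCommGrpCat.mono_iff_injective, injective_iff_map_eq_zero] at h1
  apply h1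
  change G.obj.map (cnt f (Over.mk (𝟙 Y))).op s = 0
  let l : (Over.map f).obj ((Over.pullback f).obj (Over.mk (𝟙 Y))) ⟶ Over.mk f :=
    Over.homMk (pullback.snd (𝟙 Y) f) (by rfl)
  have hl : cnt f (Over.mk (𝟙 Y)) = l ≫ (Over.homMk f : Over.mk f ⟶ Over.mk (𝟙 Y)) := by
    ext
    change ((Over.mapPullbackAdj f).counit.app (Over.mk (𝟙 Y))).left = pullback.snd (𝟙 Y) f ≫ f
    rw [Over.mapPullbackAdj_counit_app]
    change pullback.fst (𝟙 Y) f = _
    rw [← pullback.condition, Category.comp_id]
  rw [hl, op_comp, G.obj.map_comp]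
  change G.obj.map l.op (G.obj.map _ s) = 0
  rw [hs, map_zero]

section eps

variable {K' : GrothendieckTopology Scheme.{u}} (h : K' ≤ K) (X : Scheme.{u})

include h in
theorem over_le : K'.over X ≤ K.over X := by
  intro V S hS
  rw [GrothendieckTopology.mem_over_iff] at hS ⊢
  exact h _ hS

/-- A `K`-sheaf as a `K'`-sheaf. -/
def eps : Sh K X ⥤ Sh K' X where
  obj F := ⟨F.obj, fun E => Presieve.isSheaf_of_le _ (over_le h X) (F.property E)⟩
  map φ := ⟨φ.hom⟩

/-- `eps` is fully faithful. -/
def epsFullyFaithful : (eps h X).FullyFaithful where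
  preimage φ := ⟨φ.hom⟩

instance : (eps h X).Full := (epsFullyFaithful h X).full
instance : (eps h X).Faithful := (epsFullyFaithful h X).faithful
instance : (eps h X).Additive where

/-- The left adjoint of `eps`. -/
def epsInv (_ : K' ≤ K) (X : Scheme.{u}) : Sh K' X ⥤ Sh K X :=
  sheafToPresheaf (K'.over X) AddCommGrpCat.{u + 1} ⋙ presheafToSheaf (K.over X) AddCommGrpCat.{u + 1}

/-- The adjunction. -/
def epsAdj : epsInv h X ⊣ eps h X :=
  (sheafificationAdjunction (K.over X) AddCommGrpCat.{u + 1}).restrictFullyFaithful
    (fullyFaithfulSheafToPresheaf (K'.over X) AddCommGrpCat.{u + 1}) (Functor.FullyFaithful.id _)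
    (Iso.refl _) (Iso.refl _)

instance : PreservesFiniteLimits (epsInv h X) := comp_preservesFiniteLimits _ _

instance : PreservesFiniteColimits (epsInv h X) := by
  have := (epsAdj h X).leftAdjoint_preservesColimits
  infer_instance

instance : (epsInv h X).Additive := (epsAdj h X).left_adjoint_additive

instance : PreservesFiniteLimits (eps h X) := by
  have := (epsAdj h X).rightAdjoint_preservesLimits
  infer_instance

theorem isIso_unit_of_isSheaf (F : Sh K' X) (hF : Presheaf.IsSheaf (K.over X) F.obj) :
    IsIso ((epsAdj h X).unit.app F) := by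
  let G : Sh K X := ⟨F.obj, hF⟩
  let e : F ≅ (eps h X).obj G := Iso.refl _
  rw [NatTrans.isIso_app_iff_of_iso _ e]
  infer_instance

variable {X}

/-- `ε_*` commutes with `f_* f^*`. -/
def theta (f : X ⟶ Y) : eps h Y ⋙ mon K' f ≅ mon K f ⋙ eps h Y :=
  NatIso.ofComponents (fun _ => Iso.refl _) (fun φ => by
    simp only [Iso.refl_hom]
    rfl)

theorem theta_comp (f : X ⟶ Y) (F : Sh K Y) :
    (adj K' f).unit.app ((eps h Y).obj F) ≫ (theta h f).hom.app F = (eps h Y).map ((adj K f).unit.app F) :=
  Category.comp_id _

end eps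

end K224.BigTop
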