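import Mathlib.Algebra.Homology.HomologicalComplex
import Mathlib.Algebra.Homology.Embedding.Basic
import Mathlib.Algebra.Homology.SpectralObject.SpectralSequence

/-!
# Brutal truncations of cochain complexes along convex subsets

`cut S K` is the complex with `(cut S K).X p = K.X p` if `p ∈ S`, and `0` otherwise.
-/

set_option autoImplicit false

open CategoryTheory CategoryTheory.Limits

namespace K224.Cut

section At

variable {C : Type*} [Category* C] [HasZeroObject C]

open Classical ZeroObject in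
/-- `X` if `P` holds, `0` otherwise. -/
noncomputable def At (P : Prop) (X : C) : C := if P then X else 0

variable {P Q R : Prop} {X : C}

theorem At_pos (h : P) : At P X = X := if_pos h

theorem isZero_At (h : ¬ P) : IsZero (At P X) := by
  rw [At, if_neg h]
  exact isZero_zero C

theorem isZero_At' (h : ¬ P ∨ IsZero X) : IsZero (At P X) := by
  by_cases hp : P
  · rw [At, if_pos hp]
    exact h.resolve_left (fun h => h hp)
  · exact isZero_At hp

variable [HasZeroMorphisms C]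

open Classical in
/-- The inclusion. -/
noncomputable def ι (P : Prop) (X : C) : At P X ⟶ X := if h : P then eqToHom (At_pos h) else 0

open Classical in
/-- The projection. -/
noncomputable def π (P : Prop) (X : C) : X ⟶ At P X := if h : P then eqToHom (At_pos h).symm else 0

@[reassoc]
theorem ι_π (P : Prop) (X : C) : ι P X ≫ π P X = 𝟙 _ := by
  by_cases h : P
  · rw [ι, π, dif_pos h, dif_pos h, eqToHom_trans, eqToHom_refl]
  · exact (isZero_At h).eq_of_src _ _

@[reassoc]
theorem π_ι (h : P) (X : C) : π P X ≫ ι P X = 𝟙 _ := by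
  rw [ι, π, dif_pos h, dif_pos h, eqToHom_trans, eqToHom_refl]

@[reassoc]
theorem π_ι_neg (h : ¬ P) (X : C) : π P X ≫ ι P X = 0 :=
  (congrArg (· ≫ ι P X) ((isZero_At h).eq_of_tgt (π P X) 0)).trans zero_comp

theorem π_neg (h : ¬ P) (X : C) : π P X = 0 := (isZero_At h).eq_of_tgt _ _

theorem ι_neg (h : ¬ P) (X : C) : ι P X = 0 := (isZero_At h).eq_of_src _ _

/-- `At P X ≅ X` if `P` holds. -/
@[simps]
noncomputable def iso (h : P) (X : C) : At P X ≅ X where
  hom := ι P X
  inv := π P X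
  hom_inv_id := ι_π P X
  inv_hom_id := π_ι h X

/-- `At P X ≅ X` if `P` holds or `X = 0`. -/
@[simps]
noncomputable def iso' (X : C) (h : P ∨ IsZero X) : At P X ≅ X where
  hom := ι P X
  inv := π P X
  hom_inv_id := ι_π P X
  inv_hom_id := by
    by_cases hP : P
    · exact π_ι hP X
    · exact (h.resolve_left hP).eq_of_src _ _

/-- `At P X ⟶ At Q X`. -/
noncomputable def tr (P Q : Prop) (X : C) : At P X ⟶ At Q X := ι P X ≫ π Q X

theorem tr_self (P : Prop) (X : C) : tr P P X = 𝟙 _ := ι_π P X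

theorem isIso_tr (X : C) (h : (P ↔ Q) ∨ IsZero X) : IsIso (tr P Q X) := by
  rcases h with h | h
  · obtain rfl : P = Q := propext h
    rw [tr_self]
    infer_instance
  · exact ⟨0, (isZero_At' (Or.inr h)).eq_of_src _ _, (isZero_At' (Or.inr h)).eq_of_src _ _⟩

@[reassoc]
theorem tr_comp (h : P → R → Q) : tr P Q X ≫ tr Q R X = tr P R X := by
  simp only [tr, Category.assoc]
  by_cases hQ : Q
  · rw [π_ι_assoc hQ]
  · by_cases hP : P
    · have hR : ¬ R := fun hR => hQ (h hP hR)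
      rw [π_neg hR, comp_zero, comp_zero, comp_zero]
    · rw [ι_neg hP, zero_comp, zero_comp]

@[reassoc]
theorem tr_comp_neg (h : ¬ (P ∧ R ∧ Q)) : tr P Q X ≫ tr Q R X = 0 := by
  simp only [tr, Category.assoc]
  by_cases hQ : Q
  · by_cases hP : P
    · have hR : ¬ R := fun hR => h ⟨hP, hR, hQ⟩
      rw [π_neg hR, comp_zero, comp_zero, comp_zero]
    · rw [ι_neg hP, zero_comp]
  · rw [π_ι_neg_assoc hQ, zero_comp, comp_zero]

theorem comm_aux {Y : C} (d : X ⟶ Y) {P' Q' : Prop} (h : P → Q' → (P' ↔ Q)) :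
    tr P P' X ≫ (ι P' X ≫ d ≫ π Q' Y) = (ι P X ≫ d ≫ π Q Y) ≫ tr Q Q' Y := by
  dsimp [tr]
  simp only [Category.assoc]
  by_cases hp : P
  · by_cases hq : Q'
    · by_cases hp' : P'
      · rw [π_ι_assoc hp', π_ι_assoc ((h hp hq).1 hp')]
      · have hq' : ¬ Q := fun hq' => hp' ((h hp hq).2 hq')
        simp only [π_ι_neg_assoc hp', π_ι_neg_assoc hq', zero_comp, comp_zero]
    · simp only [π_neg hq, comp_zero]
  · rw [ι_neg hp, zero_comp, zero_comp]

theorem ι_comm_aux {Y : C} (d : X ⟶ Y) (h : Q ∨ IsZero Y) :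
    ι P X ≫ d = (ι P X ≫ d ≫ π Q Y) ≫ ι Q Y := by
  simp only [Category.assoc]
  rcases h with h | h
  · rw [π_ι h, Category.comp_id]
  · exact h.eq_of_tgt _ _

end At

section Cx

variable {C : Type*} [Category* C] [HasZeroObject C] [HasZeroMorphisms C]

/-- The complex `K` cut along `S`. -/
@[simps]
noncomputable def cut (S : Set ℤ) (K : CochainComplex C ℤ) : CochainComplex C ℤ where
  X p := At (p ∈ S) (K.X p)
  d p q := ι (p ∈ S) (K.X p) ≫ K.d p q ≫ π (q ∈ S) (K.X q)
  shape p q h := by rw [K.shape p q h, zero_comp, comp_zero]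
  d_comp_d' p q r _ _ := by
    simp only [Category.assoc]
    by_cases h : q ∈ S
    · rw [π_ι_assoc h, K.d_comp_d_assoc, zero_comp, comp_zero]
    · rw [π_ι_neg_assoc h, zero_comp, comp_zero, comp_zero]

/-- Condition for the existence of a morphism `cut S K ⟶ cut T K`. -/
def Good (S T : Set ℤ) : Prop := ∀ p ∈ S, p + 1 ∈ T → (p ∈ T ↔ p + 1 ∈ S)

theorem good_self (S : Set ℤ) : Good S S := fun _ hp hp' => ⟨fun _ => hp', fun _ => hp⟩

/-- The canonical morphism `cut S K ⟶ cut T K`. -/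
@[simps]
noncomputable def cutMap {S T : Set ℤ} (h : Good S T) (K : CochainComplex C ℤ) : cut S K ⟶ cut T K where
  f p := tr (p ∈ S) (p ∈ T) (K.X p)
  comm' p q hpq := by
    obtain rfl : p + 1 = q := hpq
    exact comm_aux _ (h p)

@[simp]
theorem cutMap_id (S : Set ℤ) (K : CochainComplex C ℤ) : cutMap (good_self S) K = 𝟙 _ := by
  ext p
  exact tr_self _ _

@[reassoc]
theorem cutMap_comp {S T U : Set ℤ} (h₁ : Good S T) (h₂ : Good T U) (h₃ : Good S U) (h : S ∩ U ⊆ T)
    (K : CochainComplex C ℤ) : cutMap h₁ K ≫ cutMap h₂ K = cutMap h₃ K := by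
  ext p
  exact tr_comp fun h₁ h₂ => h ⟨h₁, h₂⟩

@[reassoc]
theorem cutMap_comp_zero {S T U : Set ℤ} (h₁ : Good S T) (h₂ : Good T U) (h : ∀ p, ¬ (p ∈ S ∧ p ∈ T ∧ p ∈ U))
    (K : CochainComplex C ℤ) : cutMap h₁ K ≫ cutMap h₂ K = 0 := by
  ext p
  exact tr_comp_neg fun ⟨h₁, h₂, h₃⟩ => h p ⟨h₁, h₃, h₂⟩

theorem isIso_cutMap {S T : Set ℤ} (h : Good S T) (K : CochainComplex C ℤ)
    (hST : ∀ p, (p ∈ S ↔ p ∈ T) ∨ IsZero (K.X p)) : IsIso (cutMap h K) := by
  have : ∀ p, IsIso ((cutMap h K).f p) := fun p => isIso_tr _ (hST p)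
  exact HomologicalComplex.Hom.isIso_of_components _

/-- Truncation when the complement of `S` consists of zero objects. -/
noncomputable def cutIso (S : Set ℤ) (K : CochainComplex C ℤ) (hS : ∀ p, p ∈ S ∨ IsZero (K.X p)) :
    cut S K ≅ K :=
  HomologicalComplex.Hom.isoOfComponents (fun p => iso' (K.X p) (hS p)) (fun _ q _ => ι_comm_aux _ (hS q))

theorem isZero_cut_X (S : Set ℤ) (K : CochainComplex C ℤ) (p : ℤ) (h : ¬ p ∈ S ∨ IsZero (K.X p)) :
    IsZero ((cut S K).X p) := isZero_At' h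

/-- The increasing filtration index. -/
def SS (i : EInt) : Set ℤ := {p | ((-p : ℤ) : EInt) ≤ i}

theorem mem_SS (i : EInt) (p : ℤ) : p ∈ SS i ↔ ((-p : ℤ) : EInt) ≤ i := Iff.rfl

theorem mem_SS_coe (i p : ℤ) : p ∈ SS (i : EInt) ↔ -i ≤ p := by
  rw [mem_SS, WithBotTop.coe_le_coe]
  lia

theorem SS_mono {i j : EInt} (h : i ≤ j) : SS i ⊆ SS j := fun _ hp => le_trans hp h

theorem SS_up (i : EInt) {p q : ℤ} (h : p ≤ q) (hp : p ∈ SS i) : q ∈ SS i := by
  rw [mem_SS] at hp ⊢
  exact le_trans (WithBotTop.coe_le_coe.2 (neg_le_neg h)) hp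

theorem SS_top : SS ⊤ = Set.univ := by
  ext p
  simp [mem_SS]

theorem SS_bot : SS ⊥ = ∅ := by
  ext p
  rw [mem_SS]
  simp

theorem good_SS {i j : EInt} (h : i ≤ j) : Good (SS i) (SS j) := fun _ hp _ =>
  ⟨fun _ => SS_up i (by lia) hp, fun _ => SS_mono h hp⟩

/-- The filtration of a complex by brutal truncations. -/
@[simps]
noncomputable def filt (K : CochainComplex C ℤ) : EInt ⥤ CochainComplex C ℤ where
  obj i := cut (SS i) K
  map f := cutMap (good_SS (leOfHom f)) K
  map_id _ := cutMap_id _ _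
  map_comp f _ := (cutMap_comp _ _ _ (fun _ h => SS_mono (leOfHom f) h.1) K).symm

end Cx

end K224.Cut
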