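import Groth.Agent.EtDesc.K224.TotCut

/-!
# The `E₁` spectral sequence of a bicomplex

* `exists_E₁`: for a bicomplex `D` in an abelian category (indexed by `ℤ × ℤ`), `D^{p,q} = 0` for `p < p₀` or `q < q₀`,
  there is a convergent spectral sequence `E₁^{p,q} = H^q(D^{p,•}) ⇒ H^{p+q}(Tot D)`.
* `exists_E₁_aug`: for a bicomplex `D` with `D^{p,q} = 0` for `p < -1` or `q < q₀` and acyclic total complex, there is a
  convergent spectral sequence `E₁^{p,q} = H^q(D^{p,•})` (`p ≥ 0`) `⇒ H^{p+q}(D^{-1,•})`.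
-/

set_option autoImplicit false

universe v u

open CategoryTheory CategoryTheory.Limits HomologicalComplex₂ ComplexShape CategoryTheory.Abelian
  CategoryTheory.ComposableArrows

namespace K224.DC

open Cut TotCut FiltCx SpAbut

variable {C : Type u} [Category.{v} C] [Abelian C] [∀ D : HomologicalComplex₂ C (up ℤ) (up ℤ), D.HasTotal (up ℤ)]

variable (D : HomologicalComplex₂ C (up ℤ) (up ℤ))

/-- The filtration of the total complex by columns. -/
noncomputable abbrev Φ : EInt ⥤ CochainComplex C ℤ :=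
  filt (C := CochainComplex C ℤ) D ⋙ totalFunctor C (up ℤ) (up ℤ) (up ℤ)

omit [∀ D : HomologicalComplex₂ C (up ℤ) (up ℤ), D.HasTotal (up ℤ)] in
theorem good_diff {i j : EInt} : Good (SS j) (SS j \ SS i) := fun _ _ hq =>
  ⟨fun _ => hq.1, fun _ => ⟨‹_›, fun hi => hq.2 (SS_up i (by lia) hi)⟩⟩

theorem nonempty_H_iso (n : ℤ) {i j : EInt} (h : i ≤ j) :
    Nonempty (((so (Φ D)).H n).obj (mk₁ (homOfLE h)) ≅ ((cut₂ D (SS j \ SS i)).total (up ℤ)).homology n) := by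
  have hd : Disjoint (SS i) (SS j \ SS i) := Set.disjoint_sdiff_right
  have w := map_comp_zero D (good_SS h) (good_diff (i := i)) hd
  exact nonempty_iso_of_shortExact (Φ D) n (homOfLE h) ((cut₂ D (SS j \ SS i)).total (up ℤ))
    (total.map (cutMap₂ D good_diff) (up ℤ)) w
    (shortExact_tot D (good_SS h) (good_diff (i := i)) (Set.union_sdiff_cancel (SS_mono h)).symm hd w)

theorem isZero_total_X (n : ℤ) (h : ∀ i j : ℤ, i + j = n → IsZero ((D.X i).X j)) :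
    IsZero ((D.total (up ℤ)).X n) := by
  rw [IsZero.iff_id_eq_zero]
  apply total.hom_ext
  intro i j hij
  exact (h i j hij).eq_of_src _ _

omit [∀ D : HomologicalComplex₂ C (up ℤ) (up ℤ), D.HasTotal (up ℤ)] in
theorem isZero_homology_of_X (K : CochainComplex C ℤ) (n : ℤ) (h : IsZero (K.X n)) : IsZero (K.homology n) :=
  (ShortComplex.exact_iff_isZero_homology _).1 (ShortComplex.exact_of_isZero_X₂ (K.sc n) h)

omit [∀ D : HomologicalComplex₂ C (up ℤ) (up ℤ), D.HasTotal (up ℤ)] in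
theorem isZero_cut₂ (S : Set ℤ) (i j : ℤ) (h : ¬ i ∈ S ∨ IsZero ((D.X i).X j)) :
    IsZero (((cut₂ D S).X i).X j) := by
  by_cases hi : i ∈ S
  · exact (h.resolve_left (fun h => h hi)).of_iso ((HomologicalComplex.eval C (up ℤ) j).mapIso (Cut.iso hi (D.X i)))
  · exact (HomologicalComplex.eval C (up ℤ) j).map_isZero (isZero_cut_X S D i (Or.inl hi))

theorem isZero_homology_cut (S : Set ℤ) (n : ℤ) (h : ∀ i j : ℤ, i + j = n → i ∈ S → IsZero ((D.X i).X j)) :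
    IsZero (((cut₂ D S).total (up ℤ)).homology n) := by
  apply isZero_homology_of_X
  apply isZero_total_X
  intro i j hij
  apply isZero_cut₂
  by_cases hi : i ∈ S
  · exact Or.inr (h i j hij hi)
  · exact Or.inl hi

theorem isBdd (p₀ q₀ : ℤ) (hD : ∀ p q, p < p₀ ∨ q < q₀ → IsZero ((D.X p).X q)) : IsBdd (so (Φ D)) where
  low n := by
    refine ⟨q₀ - n - 1, fun i j h hj => ?_⟩
    obtain ⟨e⟩ := nonempty_H_iso D n h
    refine IsZero.of_iso (isZero_homology_cut D _ n fun p q hpq hp => ?_) e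
    have h1 : p ∈ SS ((q₀ - n - 1 : ℤ) : EInt) := SS_mono hj hp.1
    rw [mem_SS_coe] at h1
    exact hD p q (Or.inr (by lia))
  high n := by
    refine ⟨-p₀, fun i j h hi => ?_⟩
    obtain ⟨e⟩ := nonempty_H_iso D n h
    refine IsZero.of_iso (isZero_homology_cut D _ n fun p q hpq hp => ?_) e
    have h1 : ¬ p ∈ SS ((-p₀ : ℤ) : EInt) := fun h' => hp.2 (SS_mono hi h')
    rw [mem_SS_coe] at h1
    exact hD p q (Or.inl (by lia))

omit [∀ D : HomologicalComplex₂ C (up ℤ) (up ℤ), D.HasTotal (up ℤ)] in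
theorem SS_diff_self (p : ℤ) : SS ((-p : ℤ) : EInt) \ SS ((-p - 1 : ℤ) : EInt) = {p} := by
  ext q
  rw [Set.mem_sdiff, mem_SS_coe, mem_SS_coe, Set.mem_singleton_iff]
  lia

/-- **The `E₁` spectral sequence of a bicomplex**: `E₁^{p,q} = H^q(D^{p,•}) ⇒ H^{p+q}(Tot D)`. -/
theorem exists_E₁ (p₀ q₀ : ℤ) (hD : ∀ p q, p < p₀ ∨ q < q₀ → IsZero ((D.X p).X q)) (H : ℤ → C)
    (e : ∀ n, Nonempty ((D.total (up ℤ)).homology n ≅ H n)) :
    ∃ (E : CohomologicalSpectralSequence C 1) (a : SpSeq.Abutment E H), (∀ n, a.IsFinite n) ∧ SpSeq.IsBounded E ∧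
      ∀ p q : ℤ, Nonempty ((E.page 1 le_rfl).X (p, q) ≅ (D.X p).homology q) := by
  obtain ⟨E, a, ha, hb, hE⟩ := exists_spectralSequence_E₁ (so (Φ D)) (isBdd D p₀ q₀ hD) H (fun n => by
    obtain ⟨e₁⟩ := nonempty_H_iso D n (bot_le : (⊥ : EInt) ≤ ⊤)
    obtain ⟨e₂⟩ := e n
    have h1 : ∀ p, p ∈ SS ⊤ \ SS ⊥ ∨ IsZero (D.X p) := fun p => Or.inl (by rw [SS_top, SS_bot]; simp)
    exact ⟨e₁ ≪≫ (HomologicalComplex.homologyFunctor C (up ℤ) n).mapIso
      (total.mapIso (cutIso (C := CochainComplex C ℤ) (SS ⊤ \ SS ⊥) D h1) (up ℤ)) ≪≫ e₂⟩)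
  refine ⟨E, a, ha, hb, fun p q => ?_⟩
  obtain ⟨e₁⟩ := hE p q
  obtain ⟨e₂⟩ := nonempty_H_iso D (p + q) (show ((-p - 1 : ℤ) : EInt) ≤ ((-p : ℤ) : EInt) from
          WithBotTop.coe_le_coe.2 (by lia))
  rw [SS_diff_self] at e₂
  obtain ⟨e₃⟩ := nonempty_homology_iso_cut D p (p + q) q (by lia)
  exact ⟨e₁ ≪≫ e₂ ≪≫ e₃⟩

/-- **The `E₁` spectral sequence of an augmented bicomplex with acyclic total complex**:
`E₁^{p,q} = H^q(D^{p,•}) ⇒ H^{p+q}(D^{-1,•})`. -/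
theorem exists_E₁_aug (q₀ : ℤ) (hD : ∀ p q, p < -1 ∨ q < q₀ → IsZero ((D.X p).X q))
    (hT : ∀ n, IsZero ((D.total (up ℤ)).homology n)) (H : ℤ → C)
    (e : ∀ n, Nonempty ((D.X (-1)).homology n ≅ H n)) :
    ∃ (E : CohomologicalSpectralSequence C 1) (a : SpSeq.Abutment E H), (∀ n, a.IsFinite n) ∧ SpSeq.IsBounded E ∧
      ∀ p q : ℤ, (0 ≤ p → Nonempty ((E.page 1 le_rfl).X (p, q) ≅ (D.X p).homology q)) ∧
        (p < 0 → IsZero ((E.page 1 le_rfl).X (p, q))) := by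
  let S : Set ℤ := SS (0 : ℤ)
  let T : Set ℤ := SS (1 : ℤ)
  have hST : ((0 : ℤ) : EInt) ≤ ((1 : ℤ) : EInt) := WithBotTop.coe_le_coe.2 (by lia)
  have hdiff : T \ S = {-1} := by
    have := SS_diff_self (-1)
    exact this
  have hd : Disjoint (SS ((0 : ℤ) : EInt)) (SS ((1 : ℤ) : EInt) \ SS ((0 : ℤ) : EInt)) := Set.disjoint_sdiff_right
  have w := map_comp_zero D (good_SS hST) (good_diff (i := ((0 : ℤ) : EInt))) hd
  have hS := shortExact_tot D (good_SS hST) (good_diff (i := ((0 : ℤ) : EInt)))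
    (Set.union_sdiff_cancel (SS_mono hST)).symm hd w
  have hmid : ∀ n, IsZero (((cut₂ D (SS ((1 : ℤ) : EInt))).total (up ℤ)).homology n) := fun n => by
    have h1 : ∀ p, p ∈ SS ((1 : ℤ) : EInt) ∨ IsZero (D.X p) := fun p => by
      by_cases hp : p < -1
      · right
        rw [IsZero.iff_id_eq_zero]
        ext q
        exact (hD p q (Or.inl hp)).eq_of_src _ _
      · left
        rw [mem_SS_coe]
        lia
    exact (hT n).of_iso ((HomologicalComplex.homologyFunctor C (up ℤ) n).mapIso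
      (total.mapIso (cutIso (C := CochainComplex C ℤ) (SS ((1 : ℤ) : EInt)) D h1) (up ℤ)))
  have hδ : ∀ n : ℤ, Nonempty (((cut₂ D (SS ((0 : ℤ) : EInt))).total (up ℤ)).homology n ≅ H n) := fun n => by
    have e₁ := hS.δIso (n - 1) n (by simp) (hmid (n - 1)) (hmid n)
    obtain ⟨e₂⟩ := nonempty_homology_iso_cut D (-1) (n - 1) n (by lia)
    obtain ⟨e₃⟩ := e n
    have e₄ : ((cut₂ D (SS ((1 : ℤ) : EInt) \ SS ((0 : ℤ) : EInt))).total (up ℤ)).homology (n - 1) ≅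
      (D.X (-1)).homology n := by
      have : SS ((1 : ℤ) : EInt) \ SS ((0 : ℤ) : EInt) = {-1} := hdiff
      rw [this]
      exact e₂
    exact ⟨e₁.symm ≪≫ e₄ ≪≫ e₃⟩
  obtain ⟨E, a, ha, hb, hE⟩ := exists_E₁ (cut₂ D (SS ((0 : ℤ) : EInt))) (-1) q₀ (fun p q h => by
    refine isZero_cut₂ D _ p q ?_
    rcases h with h | h
    · left
      rw [mem_SS_coe]
      lia
    · exact Or.inr (hD p q (Or.inr h))) H hδ
  refine ⟨E, a, ha, hb, fun p q => ⟨fun hp => ?_, fun hp => ?_⟩⟩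
  · obtain ⟨e₁⟩ := hE p q
    have hp' : p ∈ SS ((0 : ℤ) : EInt) := by rw [mem_SS_coe]; lia
    exact ⟨e₁ ≪≫ (HomologicalComplex.homologyFunctor C (up ℤ) q).mapIso (Cut.iso hp' (D.X p))⟩
  · obtain ⟨e₁⟩ := hE p q
    refine IsZero.of_iso ?_ e₁
    apply isZero_homology_of_X
    refine isZero_cut₂ D _ p q (Or.inl ?_)
    rw [mem_SS_coe]
    lia

end K224.DC
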