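import Groth.Agent.EtDesc.K224.SpAbut
import Groth.Agent.CohDer.K49.HomSpec
import Mathlib.Algebra.Homology.HomotopyCategory.SpectralObject
import Mathlib.Algebra.Homology.HomotopyCategory.ShortExact
import Mathlib.Algebra.Homology.HomotopyCategory.HomologicalFunctor

/-!
# The spectral object of a filtered complex
-/

set_option autoImplicit false

universe v u

open CategoryTheory CategoryTheory.Limits CategoryTheory.Abelian CategoryTheory.ComposableArrows

namespace K224.FiltCx

variable {C : Type u} [Category.{v} C] [Abelian C]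

/-- The spectral object of a filtered complex. -/
noncomputable def so {ι : Type*} [Category* ι] (Φ : ι ⥤ CochainComplex C ℤ) : SpectralObject C ι :=
  K49.HomSpec.mapHomological ((HomotopyCategory.spectralObjectMappingCone C).precomp Φ)
    (HomotopyCategory.homologyFunctor C (ComplexShape.up ℤ) 0)

/-- `H^n(i → j)` is the cohomology of the mapping cone. -/
noncomputable def isoCone {ι : Type*} [Category* ι] (Φ : ι ⥤ CochainComplex C ℤ) (n : ℤ) {i j : ι} (f : i ⟶ j) :
    ((so Φ).H n).obj (mk₁ f) ≅ (CochainComplex.mappingCone (Φ.map f)).homology n :=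
  (HomotopyCategory.homologyFunctorFactors C (ComplexShape.up ℤ) n).app (CochainComplex.mappingCone (Φ.map f))

theorem nonempty_iso_of_shortExact {ι : Type*} [Category* ι] (Φ : ι ⥤ CochainComplex C ℤ) (n : ℤ) {i j : ι} (f : i ⟶ j)
    (Q : CochainComplex C ℤ) (g : Φ.obj j ⟶ Q) (w : Φ.map f ≫ g = 0) (h : (ShortComplex.mk _ _ w).ShortExact) :
    Nonempty (((so Φ).H n).obj (mk₁ f) ≅ Q.homology n) := by
  have := CochainComplex.mappingCone.quasiIso_descShortComplex h
  exact ⟨isoCone Φ n f ≪≫ asIso (HomologicalComplex.homologyMap (CochainComplex.mappingCone.descShortComplex 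
    (ShortComplex.mk _ _ w)) n)⟩

end K224.FiltCx
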