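import Groth.Agent.Etrest.FppfVan
import Groth.Agent.HTop.K343.Res

/-!
# The fppf topology as a good topology
-/

set_option autoImplicit false
universe w u
open CategoryTheory CategoryTheory.Limits AlgebraicGeometry Opposite

noncomputable section

namespace K224.FppfK

open Groth.Agent.Etrest Groth.Agent.Etrest.BigEtSite K343.Basic

instance good_fppf : Good Scheme.fppfTopology.{u} where
  le := etaleTopology_le_fppfTopology
  isSheaf _ F := isSheaf_J F

theorem mem_fppf {U V : Scheme.{u}} (f : V ⟶ U) [Flat f] [LocallyOfFinitePresentation f] [hs : Surjective f] :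
    Sieve.generate (Presieve.singleton f) ∈ Scheme.fppfTopology.{u} U :=
  Precoverage.generate_mem_toGrothendieck (Scheme.Hom.singleton_mem_fppfPrecoverage f)

/-- `R^q (-|_T) (a⁻¹ F) = 0`. -/
theorem isZero_rightDerived_uResK {X T : Scheme.{u}} (t : T ⟶ X) [ContK Scheme.fppfTopology.{u} X]
    (F : EtCoh.Ab X) (q : ℕ) (hq : 0 < q) :
    IsZero (((uResK Scheme.fppfTopology.{u} t).rightDerived q).obj ((aPullK Scheme.fppfTopology.{u} X).obj F)) :=
  FppfVan.isZero_rightDerived_uResF t F q hq

end K224.FppfK
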