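import Groth.Agent.HTop.K343.Van

/-!
# Topologies generated by the étale topology and surjective morphisms of a class `P`

Version of `K343.GenTop`, `K343.Van` (helper343) for a class `P` of morphisms, stable under base change, satisfying
base change in degree zero for all étale sheaves.
-/

set_option autoImplicit false
universe w u
open CategoryTheory CategoryTheory.Limits AlgebraicGeometry Opposite
open CategoryTheory.Abelian (Ext)

noncomputable section

namespace K224.GenP

open Groth.Agent.Etrest Groth.Agent.Etrest.BigEtSite Groth.Agent.Etrest.BigPush K343.Basic K343.Res K343.Push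
open K343.BigAdj K343.ExtVan K343.Glue K343.Topo K343.GenTop K343.Van

attribute [local instance] isGrothendieckAbelian_AbK

/-- Base change in degree zero for the morphisms of a class `P`. -/
class BC0 (P : MorphismProperty Scheme.{u}) : Prop where
  stable : P.IsStableUnderBaseChange
  bc : ∀ {X Y X' Y' : Scheme.{u}} (f : X ⟶ Y) (_ : P f) (g : Y' ⟶ Y) (f' : X' ⟶ Y') (g' : X' ⟶ X)
    (h : IsPullback g' f' f g) (F : EtCoh.Ab X), IsIso (EtCoh.baseChange0 f g f' g' h.w F)

attribute [instance] BC0.stable

/-- `K` is finer than the étale topology, and generated by étale coverings and surjective morphisms in `P`. -/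
class GenP (P : MorphismProperty Scheme.{u}) (K : GrothendieckTopology Scheme.{u}) : Prop where
  le : Scheme.etaleTopology ≤ K
  gen : ∀ L : GrothendieckTopology Scheme.{u}, Scheme.etaleTopology ≤ L →
    (∀ {V U : Scheme.{u}} (f : V ⟶ U), P f → Surjective f →
      Sieve.generate (Presieve.singleton f) ∈ K U → Sieve.generate (Presieve.singleton f) ∈ L U) → K ≤ L

variable (P : MorphismProperty Scheme.{u})

section gen

/-- The topology generated by étale coverings and surjective morphisms in `P`. -/
def top : GrothendieckTopology Scheme.{u} :=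
  sInf {L | Scheme.etaleTopology ≤ L ∧ ∀ (V U : Scheme.{u}) (f : V ⟶ U), P f → Surjective f →
      Sieve.generate (Presieve.singleton f) ∈ L U}

theorem mem_top {V U : Scheme.{u}} (f : V ⟶ U) (hf : P f) (hs : Surjective f) :
    Sieve.generate (Presieve.singleton f) ∈ top P U := by
  rintro _ ⟨⟨_, L, hL, rfl⟩, rfl⟩
  exact hL.2 V U f hf hs

instance genP_top : GenP P (top P) where
  le := le_sInf fun _ hL => hL.1
  gen L h1 h2 := sInf_le ⟨h1, fun _ _ f hf hs => h2 f hf hs (mem_top P f hf hs)⟩

end gen

variable (K : GrothendieckTopology Scheme.{u})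

/-- Detection of separatedness. -/
theorem le_sepTop_of_gen [P.IsStableUnderBaseChange] [GenP P K] {S : Scheme.{u}} (G : (Over S)ᵒᵖ ⥤ Type w)
    (hZ : Presieve.IsSeparated (Scheme.etaleTopology.over S) G)
    (hP : ∀ (Y : Over S) (V : Scheme.{u}) (p : V ⟶ Y.left), P p → Surjective p →
      Sieve.generate (Presieve.singleton p) ∈ K Y.left →
      ∀ x y : G.obj (op Y), G.map (hm Y p).op x = G.map (hm Y p).op y → x = y) :
    K ≤ sepTop G := by
  apply GenP.gen (P := P) (K := K) _ (le_sepTop_of_isSeparated _ _ hZ)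
  intro V U f hf hs hK Y g x a b ha hb
  have h1 : ov Y ((Sieve.generate (Presieve.singleton f)).pullback g) (hm Y (pullback.snd f g)) := by
    rw [generate_pullback_iff]
    exact ⟨𝟙 _, Category.id_comp _⟩
  apply hP Y _ (pullback.snd f g) (P.pullback_snd _ _ hf) inferInstance (singleton_pullback_mem K f g hK)
  rw [ha _ h1, hb _ h1]

/-- Sheaf criterion for `K`. -/
theorem le_shTop_of_gen [P.IsStableUnderBaseChange] [GenP P K] {S : Scheme.{u}} (G : (Over S)ᵒᵖ ⥤ Type w)
    (hZ : Presieve.IsSheaf (Scheme.etaleTopology.over S) G)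
    (hP : ∀ (Y : Over S) (V : Scheme.{u}) (p : V ⟶ Y.left), P p → Surjective p →
      ∀ x y : G.obj (op Y), G.map (hm Y p).op x = G.map (hm Y p).op y → x = y)
    (hG : ∀ (Y : Over S) (V : Scheme.{u}) (p : V ⟶ Y.left), P p → Surjective p →
      ∀ s : G.obj (op (Over.mk (p ≫ Y.hom))),
        (∀ (W : Over S) (k₁ k₂ : W ⟶ Over.mk (p ≫ Y.hom)), k₁ ≫ hm Y p = k₂ ≫ hm Y p →
          G.map k₁.op s = G.map k₂.op s) → ∃ a : G.obj (op Y), G.map (hm Y p).op a = s) :
    K ≤ shTop G := by
  apply GenP.gen (P := P) (K := K) _ (le_shTop_of_isSheaf _ _ hZ)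
  intro V U f hf hs _ Y g
  let p := pullback.snd f g
  have hp : P p := P.pullback_snd _ _ hf
  have hs' : Surjective p := inferInstance
  have h0 : ∀ {Z : Over S} (l : Z ⟶ Over.mk (p ≫ Y.hom)),
      ov Y ((Sieve.generate (Presieve.singleton f)).pullback g) (l ≫ hm Y p) := by
    intro Z l
    rw [generate_pullback_iff]
    exact ⟨l, rfl⟩
  have h1 : ov Y ((Sieve.generate (Presieve.singleton f)).pullback g) (hm Y p) := by
    rw [generate_pullback_iff]
    exact ⟨𝟙 _, Category.id_comp _⟩
  intro x hx
  have hx1 : ∀ {Z : Over S} (l : Z ⟶ Over.mk (p ≫ Y.hom)) (k : Z ⟶ Y) (hk), l ≫ hm Y p = k →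
      G.map l.op (x (hm Y p) h1) = x k hk := by
    intro Z l k hk e
    have := hx l (𝟙 Z) h1 hk (by rw [e, Category.id_comp])
    rw [this, op_id, G.map_id]
    rfl
  obtain ⟨a, ha⟩ := hG Y _ p hp hs' (x (hm Y p) h1) (by
    intro W k₁ k₂ e
    rw [hx1 k₁ _ (h0 k₁) rfl, hx1 k₂ _ (h0 k₁) e.symm])
  refine ⟨a, ?_, ?_⟩
  · intro Z k hk
    obtain ⟨l, hl⟩ := (generate_pullback_iff Y f g k).1 hk
    rw [← hx1 l k hk hl, ← ha]
    have e3 : G.map l.op (G.map (hm Y p).op a) = G.map (l ≫ hm Y p).op a := by
      rw [op_comp, G.map_comp]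
      rfl
    rw [e3]
    exact congrArg (fun z => G.map (Quiver.Hom.op z) a) hl.symm
  · intro b hb
    apply hP Y _ p hp hs'
    rw [hb _ h1, ha]

theorem le_shTop [BC0 P] [GenP P K] {S : Scheme.{u}} (F : EtCoh.Ab S) : K ≤ shTop (tyE F) := by
  apply le_shTop_of_gen P K
  · exact isSheaf_tyE F
  · intro Y V p hp hs x y h
    apply eq_of_jointly_surjective F
    intro z
    obtain ⟨v, hv⟩ := p.surjective z
    exact ⟨_, hm Y p, ⟨v, hv⟩, h⟩
  · intro Y V p hp hs s hcomp
    obtain ⟨e⟩ := nonempty_iso_mapRes Y.hom F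
    obtain ⟨a, ha⟩ := exists_glue p (fun G T X' t f' t' hp' => BC0.bc p hp t f' t' hp' G)
      ((mapResE Y.hom).obj ((aPullE S).obj F)) _ e s (by
        intro T x y
        apply hcomp ((Over.map Y.hom).obj T) ((Over.map Y.hom).map x) ((Over.map Y.hom).map y)
        ext
        have h1 : x.left ≫ p = T.hom := Over.w x
        have h2 : y.left ≫ p = T.hom := Over.w y
        exact h1.trans h2.symm)
    refine ⟨((aPullE S).obj F).obj.map (topIso Y).inv.op a, ?_⟩
    have h1 : hm Y p ≫ (topIso Y).inv = (Over.map Y.hom).map (toTop p) := by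
      ext
      exact Category.comp_id _
    exact (res_res F (topIso Y).inv (hm Y p) a).trans ((congrArg (fun k => res F k a) h1).trans ha)

/-- Small étale sheaves give `K`-sheaves. -/
theorem isSheaf_of_gen [BC0 P] [GenP P K] (S : Scheme.{u})
    (F : EtCoh.Ab S) : Presheaf.IsSheaf (K.over S) ((aPullE S).obj F).obj := by
  rw [Presheaf.isSheaf_iff_isSheaf_forget (K.over S) _ (forget AddCommGrpCat.{u + 1}), 
    isSheaf_iff_isSheaf_of_type]
  exact isSheaf_of_le_shTop K _ (le_shTop P K F)

theorem good_of_gen [BC0 P] [GenP P K] : Good K where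
  le := GenP.le P
  isSheaf := isSheaf_of_gen P K

variable [Good K]

/-- The class of sheaves satisfying descent in all degrees. -/
def Cls {X : Scheme.{u}} (G : AbK K X) : Prop :=
  ∀ (U : Scheme.{u}) (j : U ⟶ X) (V : Scheme.{u}) (f : V ⟶ U), P f → Surjective f →
    Sieve.generate (Presieve.singleton f) ∈ K U → ∀ (n : ℕ)
      (x : Ext (Qf Scheme.etaleTopology f) ((mapResE j).obj ((toE K X).obj G)) n), x = 0

omit [Good K] in
theorem isZero_of_locally_zero [P.IsStableUnderBaseChange] [GenP P K] {X : Scheme.{u}} (E : AbE X)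
    (h1 : ∀ (U : Scheme.{u}) (j : U ⟶ X) (V : Scheme.{u}) (f : V ⟶ U), P f → Surjective f →
      Sieve.generate (Presieve.singleton f) ∈ K U →
      ∀ (φ : Qf Scheme.etaleTopology f ⟶ (mapResE j).obj E), φ = 0)
    (h2 : ∀ (Y : Over X) (e : E.obj.obj (op Y)), ∃ R : Sieve Y, R ∈ K.over X Y ∧
      ∀ (Z : Over X) (k : Z ⟶ Y), R k → E.obj.map k.op e = 0) : IsZero E := by
  have hsep : K ≤ sepTop (E.obj ⋙ forget AddCommGrpCat.{u + 1}) := by
    apply le_sepTop_of_gen P
    · have hsh : Presieve.IsSheaf (JE X) (E.obj ⋙ forget AddCommGrpCat.{u + 1}) :=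
        (isSheaf_iff_isSheaf_of_type _ _).1 
          (Presheaf.isSheaf_comp_of_isSheaf (JE X) E.obj (forget AddCommGrpCat.{u + 1}) E.property)
      exact hsh.isSeparated
    · intro Y V p hp hs hK x y hxy
      have h3 : ∀ z : E.obj.obj (op Y), E.obj.map (hm Y p).op z = 0 → z = 0 := by
        intro z hz
        have h4 := K343.QObj.inj_of_eq_zero (toTop p) ((mapResE Y.hom).obj E) (h1 Y.left Y.hom V p hp hs hK)
          (E.obj.map (topIso Y).hom.op z) (by
            have h5 : (Over.map Y.hom).map (toTop p) ≫ (topIso Y).hom = hm Y p := by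
              ext
              exact Category.comp_id _
            have h6 : E.obj.map ((Over.map Y.hom).map (toTop p) ≫ (topIso Y).hom).op z = 0 := by
              rw [h5]
              exact hz
            rw [op_comp, E.obj.map_comp] at h6
            exact h6)
        have h7 : z = E.obj.map (topIso Y).inv.op (E.obj.map (topIso Y).hom.op z) := by
          have h8 : E.obj.map ((topIso Y).inv ≫ (topIso Y).hom).op z = z := by
            rw [Iso.inv_hom_id, op_id, E.obj.map_id]
            rfl
          rw [op_comp, E.obj.map_comp] at h8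
          exact h8.symm
        rw [h7]
        have h9 : E.obj.map (topIso Y).hom.op z = 0 := h4
        rw [h9, map_zero]
      have h4 : ∀ x y : E.obj.obj (op Y), E.obj.map (hm Y p).op x = E.obj.map (hm Y p).op y → x = y := by
        intro x y hxy
        exact sub_eq_zero.1 (h3 (x - y) (by rw [map_sub, hxy, sub_self]))
      exact h4 x y hxy
  have hsep' := isSeparated_of_le_sepTop K _ hsep
  apply isZero_of_sections
  intro Y e
  obtain ⟨R, hR, h⟩ := h2 Y e
  refine (hsep' R hR).ext (t₁ := e) (t₂ := (0 : E.obj.obj (op Y))) ?_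
  intro Z k hk
  change E.obj.map k.op e = E.obj.map k.op 0
  rw [map_zero, h Z k hk]

theorem step [P.IsStableUnderBaseChange] [GenP P K] {X : Scheme.{u}} (S : ShortComplex (AbK K X))
    (hS : S.ShortExact) (hI : Injective S.X₂)
    (hG : Cls P K S.X₁) : Cls P K S.X₃ ∧ Epi ((toE K X).map S.g) := by
  have hS1 := hS.mono_f
  have hS3 := hS.epi_g
  have hSR : (S.map (toE K X)).Exact := by
    have h := hS.exact.map_of_mono_of_preservesKernel (toE K X) hS1 inferInstance
    exact h
  let a : (toE K X).obj S.X₁ ⟶ (toE K X).obj S.X₂ := (toE K X).map S.f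
  let b : (toE K X).obj S.X₂ ⟶ (toE K X).obj S.X₃ := (toE K X).map S.g
  have hab : a ≫ b = 0 := (S.map (toE K X)).zero
  have ha : Mono a := inferInstanceAs (Mono ((toE K X).map S.f))
  let q := cokernel.π a
  let m : cokernel a ⟶ (toE K X).obj S.X₃ := cokernel.desc a b hab
  have hqm : q ≫ m = b := cokernel.π_desc _ _ _
  have hm : Mono m := hSR.mono_cokernelDesc
  let S₁ : ShortComplex (AbE X) := ShortComplex.mk a q (cokernel.condition a)
  have hS₁ : S₁.ShortExact :=
    { exact := ShortComplex.exact_of_g_is_cokernel _ (cokernelIsCokernel a)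
      mono_f := ha
      epi_g := inferInstanceAs (Epi (cokernel.π a)) }
  let S₂ : ShortComplex (AbE X) := ShortComplex.mk m (cokernel.π m) (cokernel.condition m)
  have hS₂ : S₂.ShortExact :=
    { exact := ShortComplex.exact_of_g_is_cokernel _ (cokernelIsCokernel m)
      mono_f := hm
      epi_g := inferInstanceAs (Epi (cokernel.π m)) }
  have hc : ∀ (U : Scheme.{u}) (j : U ⟶ X) (V : Scheme.{u}) (f : V ⟶ U), P f → Surjective f →
      Sieve.generate (Presieve.singleton f) ∈ K U → ∀ (n : ℕ)
      (x : Ext (Qf Scheme.etaleTopology f) ((mapResE j).obj (cokernel a)) n), x = 0 := by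
    intro U j V f hf hs hK n
    exact ext_X₃ _ (hS₁.map_of_exact (mapResE j)) n (cls_injective K S.X₂ j f hK n)
      (hG U j V f hf hs hK (n + 1))
  have hz : IsZero (cokernel m) := by
    apply isZero_of_locally_zero P K
    · intro U j V f hf hs hK φ
      exact hom_of_ext0 (ext_X₃ (Qf Scheme.etaleTopology f) (hS₂.map_of_exact (mapResE j)) 0
        (ext0_eq_zero (hom_eq_zero K S.X₃ j f hK)) (hc U j V f hf hs hK 1)) φ
    · intro Y e
      -- local surjectivity of the two epimorphisms
      have hl1 : Sheaf.IsLocallySurjective (cokernel.π m) := by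
        rw [Sheaf.isLocallySurjective_iff_epi']
        infer_instance
      have hl2 : Sheaf.IsLocallySurjective S.g := by
        rw [Sheaf.isLocallySurjective_iff_epi']
        infer_instance
      have hR1 : Presheaf.imageSieve (cokernel.π m).hom e ∈ JE X Y := 
        hl1.imageSieve_mem e
      let R : Sieve Y :=
        { arrows := fun Z k => (cokernel m).obj.map k.op e = 0
          downward_closed := by
            intro Z Z' k hk l
            rw [op_comp, (cokernel m).obj.map_comp, ConcreteCategory.comp_apply, hk, map_zero] }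
      refine ⟨R, ?_, fun Z k hk => hk⟩
      refine (K.over X).transitive (le_over (K := K) X _ hR1) R ?_
      rintro Z k ⟨h, hh⟩
      have hR2 : Presheaf.imageSieve S.g.hom h ∈ K.over X Z := hl2.imageSieve_mem h
      refine (K.over X).superset_covering ?_ hR2
      rintro W l ⟨i, hi⟩
      change (cokernel m).obj.map (l ≫ k).op e = 0
      have e1 : (cokernel m).obj.map (l ≫ k).op e = (cokernel m).obj.map l.op ((cokernel m).obj.map k.op e) := by
        rw [op_comp, (cokernel m).obj.map_comp]
        rfl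
      rw [e1, ← hh]
      have e2 := ConcreteCategory.congr_hom ((cokernel.π m).hom.naturality l.op) h
      refine Eq.trans e2.symm ?_
      change (cokernel.π m).hom.app (op W) (S.X₃.obj.map l.op h) = 0
      rw [← hi]
      have e3 : b ≫ cokernel.π m = 0 := by
        rw [← hqm, Category.assoc, cokernel.condition, comp_zero]
      have e4 := congrArg (fun φ => φ.hom.app (op W)) e3
      exact ConcreteCategory.congr_hom e4 i
  have hme : Epi m := by
    apply Preadditive.epi_of_cokernel_zero
    exact hz.eq_of_tgt _ _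
  have hmi : IsIso m := isIso_of_mono_of_epi m
  refine ⟨?_, ?_⟩
  · intro U j V f hf hs hK n
    exact ext_of_iso _ ((mapResE j).map m) n (hc U j V f hf hs hK n)
  · change Epi b
    rw [← hqm]
    exact epi_comp _ _

section main

variable [P.IsStableUnderBaseChange] [GenP P K] {X : Scheme.{u}}

variable {P K} in
omit [P.IsStableUnderBaseChange] [GenP P K] in
/-- `a⁻¹ F` is in the class. -/
theorem cls_of_ext [ContK K X] (F : EtCoh.Ab X) (h : ∀ (U : Scheme.{u}) (j : U ⟶ X) (V : Scheme.{u}) (f : V ⟶ U), P f → Surjective f →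
    ∀ (n : ℕ) (x : Ext (Qf Scheme.etaleTopology f) ((aPullE U).obj ((EtCoh.pull j).obj F)) n), x = 0) :
    Cls P K ((aPullK K X).obj F) := by
  intro U j V f hf hs _ n
  let e : (aPullE U).obj ((EtCoh.pull j).obj F) ≅ (mapResE j).obj ((toE K X).obj ((aPullK K X).obj F)) :=
    (pullMapIso j).app F ≪≫ (mapResE j).mapIso ((aPullIsoE K X).app F).symm
  refine ext_of_iso _ e.hom n ?_
  exact h U j V f hf hs n

/-- `R^q ε_* (a⁻¹ F) = 0`. -/
theorem isZero_rightDerived_toE (G : AbK K X) (hG : Cls P K G)
    (q : ℕ) (hq : 0 < q) : IsZero (((toE K X).rightDerived q).obj G) :=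
  RAcyc.isZero_rightDerived_of_class (toE K X) (Cls P K) (fun S hS hI hG => step P K S hS hI hG) hG q hq

/-- `R^q (-|_T) (a⁻¹ F) = 0`. -/
theorem isZero_rightDerived_uResK {T : Scheme.{u}} (t : T ⟶ X) (G : AbK K X) (hG : Cls P K G) (q : ℕ) (hq : 0 < q) :
    IsZero (((uResK K t).rightDerived q).obj G) := by
  refine RAcyc.isZero_rightDerived_of_class (uResK K t) (Cls P K) (fun S hS hI hG => ?_) hG q hq
  obtain ⟨h1, h2⟩ := step P K S hS hI hG
  exact ⟨h1, epi_uRes t ((toE K X).map S.g)⟩

end main

end K224.GenP
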