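import Groth.Agent.HTop.K343.Res
import Groth.Agent.EtpbcB.GammaRpush
import Groth.Agent.Cohder.RDInt
import Groth.Agent.Etrest.RAcyc

/-!
# Sections of an injective resolution on a big site

`K` a topology on schemes with `Good K` (finer than étale, small étale sheaves give `K`-sheaves), `F` a small étale
sheaf on `X` with `R^q (-|_V) (a⁻¹ F) = 0` for `q > 0`.  Then `H^q (I(V)) ≅ H^q_ét(V, F|_V)` for an injective
resolution `I` of `a⁻¹ F` in the category of abelian sheaves on the big `K`-site of `X`.
-/

set_option autoImplicit false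
universe w u
open CategoryTheory CategoryTheory.Limits AlgebraicGeometry Opposite

noncomputable section

namespace K224.Sec

open Groth.Agent.Etrest Groth.Agent.Etrest.BigEtSite Groth.Agent.Etrest.BigPush K343.Basic K343.Res
open Groth.Agent.EtpbcB.GammaRpush Groth.Agent.EtpbcB.SepClosedPoint

attribute [local instance] isGrothendieckAbelian_AbK

variable (K : GrothendieckTopology Scheme.{u}) {X : Scheme.{u}}

/-- Sections over `V`. -/
abbrev sec (V : Over X) : AbK K X ⥤ AddCommGrpCat.{u + 1} :=
  sheafToPresheaf (K.over X) AddCommGrpCat.{u + 1} ⋙ (evaluation _ AddCommGrpCat.{u + 1}).obj (op V)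

instance (V : Over X) : (sec K V).Additive where

variable [Good K]

/-- Sections over `V` through the small étale site of `V`. -/
def secIso (V : Over X) : uResK K V.hom ⋙ Γtop V.left ≅ sec K V :=
  NatIso.ofComponents (fun G => G.obj.mapIso (ufTop V.hom).symm.op) (fun φ =>
    (φ.hom.naturality (ufTop V.hom).inv.op).symm)

theorem nonempty_rightDerived [ContK K X] (V : Over X) (G : AbK K X)
    (hv : ∀ q : ℕ, 0 < q → IsZero (((uResK K V.hom).rightDerived q).obj G)) (q : ℕ) :
    Nonempty (((sec K V).rightDerived q).obj G ≅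
      ((Γtop V.left).rightDerived q).obj ((uResK K V.hom).obj G)) := by
  let I : InjectiveResolution G := InjectiveResolution.of G
  have hex : ∀ n, (((uResK K V.hom).mapHomologicalComplex (ComplexShape.up ℕ)).obj I.cocomplex).ExactAt (n + 1) :=
    fun n => RAcyc.exactAt_of_isZero_rightDerived (uResK K V.hom) I (n + 1) (hv (n + 1) n.succ_pos)
  have hinj : ∀ J : AbK K X, Injective J → Injective ((uResK K V.hom).obj J) :=
    fun J hJ => injective_uResK K V.hom J
  let I' : InjectiveResolution ((uResK K V.hom).obj G) := RAcyc.mapResolution (uResK K V.hom) I hinj hex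
  let e1 := I.isoRightDerivedObj (sec K V) q
  let e2 := I'.isoRightDerivedObj (Γtop V.left) q
  let e3 : ((Γtop V.left).mapHomologicalComplex (ComplexShape.up ℕ)).obj I'.cocomplex ≅
      ((sec K V).mapHomologicalComplex (ComplexShape.up ℕ)).obj I.cocomplex :=
    (NatIso.mapHomologicalComplex (secIso K V) (ComplexShape.up ℕ)).app I.cocomplex
  exact ⟨e1 ≪≫ ((HomologicalComplex.homologyFunctor _ _ q).mapIso e3).symm ≪≫ e2.symm⟩

/-- `H^q (I(V)) ≅ H^q_ét(V, F|_V)`. -/
theorem nonempty_H [ContK K X] (V : Over X) (F : EtCoh.Ab X)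
    (hv : ∀ q : ℕ, 0 < q → IsZero (((uResK K V.hom).rightDerived q).obj ((aPullK K X).obj F))) (q : ℕ) :
    Nonempty (((sec K V).rightDerived q).obj ((aPullK K X).obj F) ≅
      AddCommGrpCat.of (EtCoh.H V.left ((EtCoh.pull V.hom).obj F) q)) := by
  obtain ⟨e1⟩ := nonempty_rightDerived K V ((aPullK K X).obj F) hv q
  obtain ⟨e2⟩ := H_rightDerived V.left ((EtCoh.pull V.hom).obj F) q
  exact ⟨e1 ≪≫ ((Γtop V.left).rightDerived q).mapIso ((pullIsoK K V.hom).app F) ≪≫ e2.toAddCommGrpIso.symm⟩

/-- The complex of sections of an injective resolution. -/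
theorem nonempty_homology [ContK K X] (V : Over X) (F : EtCoh.Ab X)
    (hv : ∀ q : ℕ, 0 < q → IsZero (((uResK K V.hom).rightDerived q).obj ((aPullK K X).obj F)))
    (I : InjectiveResolution ((aPullK K X).obj F)) (q : ℕ) (m : ℤ) (hm : (q : ℤ) = m) :
    Nonempty ((((sec K V).mapHomologicalComplex (ComplexShape.up ℤ)).obj I.cochainComplex).homology m ≅
      AddCommGrpCat.of (EtCoh.H V.left ((EtCoh.pull V.hom).obj F) q)) := by
  obtain ⟨e⟩ := nonempty_H K V F hv q
  exact ⟨(Groth.Agent.Cohder.RDInt.isoH₀ (sec K V) I q m hm).symm ≪≫ e⟩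

end K224.Sec
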