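import Groth.Agent.EtDesc.K224.GenP
import Groth.Agent.EtDesc.K224.Sec
import Groth.Agent.S0655
import Groth.Agent.S3054

/-!
# Integral surjective descent

`KI`: the topology on schemes generated by étale coverings and integral surjective morphisms.  For every small étale
abelian sheaf `F` on `X`: `R^q (-|_T) (a⁻¹ F) = 0` for `q > 0`, i.e. étale cohomology is the cohomology of the big
`KI`-site.
-/

set_option autoImplicit false
universe w u
open CategoryTheory CategoryTheory.Limits AlgebraicGeometry Opposite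
open CategoryTheory.Abelian (Ext)

noncomputable section

namespace K224.IntK

open Groth.Agent.Etrest Groth.Agent.Etrest.BigEtSite Groth.Agent.Etrest.BigPush K343.Basic K343.Res K343.Push
open K343.BigAdj K343.ExtVan K343.Glue K343.Topo K343.GenTop K343.Van K224.GenP

attribute [local instance] isGrothendieckAbelian_AbK

instance bc0_integral : BC0 (@IsIntegralHom : MorphismProperty Scheme.{u}) where
  stable := inferInstance
  bc f _ g f' g' h F := Groth.Agent.S0655.result f g f' g' h F

section

variable {U V : Scheme.{u}} (f : V ⟶ U) [IsIntegralHom f]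

theorem isZero_RpushBigE (F : EtCoh.Ab V) (q : ℕ) (hq : 0 < q) :
    IsZero (((pushBigK Scheme.etaleTopology f).rightDerived q).obj
      ((aPullK Scheme.etaleTopology V).obj F)) := by
  refine isZero_RpushBig Scheme.etaleTopology f F (fun T t q hq => isZero_uResE t _ q hq) ?_ q hq
  intro T X' t f' t' hp q hq
  have : IsIntegralHom f' := MorphismProperty.of_isPullback hp ‹_›
  exact Groth.Agent.S3054.result f' _ q hq

/-- `Ext (Q, π⁻¹ f_* F) = 0`. -/
theorem ext_push_eq_zero (F : EtCoh.Ab V) (n : ℕ)
    (x : Ext (Qf Scheme.etaleTopology f) ((aPullE U).obj ((EtCoh.push f).obj F)) n) : x = 0 := by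
  obtain ⟨e⟩ := RAcyc.nonempty_extAddEquiv (bigAdj Scheme.etaleTopology f)
    (injective_pushBig Scheme.etaleTopology f) (isZero_RpushBigE f F) (Qf Scheme.etaleTopology f) n
  have hz : ∀ y : Ext (Qf Scheme.etaleTopology f) ((pushBigK Scheme.etaleTopology f).obj
      ((aPullK Scheme.etaleTopology V).obj F)) n, y = 0 := by
    intro y
    apply e.injective
    rw [map_zero]
    have h1 : 𝟙 ((pullBigK Scheme.etaleTopology f).obj (Qf Scheme.etaleTopology f)) = 0 :=
      (IsZero.iff_id_eq_zero _).1 (isZero_pullBig_Qf Scheme.etaleTopology f)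
    rw [← Ext.mk₀_id_comp (e y), h1, Ext.mk₀_zero, Ext.zero_comp]
  have h1 := isIso_compE f F (fun T X' t f' t' hp => BC0.bc (P := @IsIntegralHom) f ‹_› t f' t' hp F)
  have h2 := hz (x.comp (Ext.mk₀ (compE f F)) (add_zero n))
  have h3 : x = (x.comp (Ext.mk₀ (compE f F)) (add_zero n)).comp
      (Ext.mk₀ (inv (compE f F))) (add_zero n) := by
    rw [Ext.comp_assoc_of_second_deg_zero, Ext.mk₀_comp_mk₀, IsIso.hom_inv_id, Ext.comp_mk₀_id]
  rw [h3, h2, Ext.zero_comp]

/-- Cohomological descent: `Ext^n (Qf f, π⁻¹ F) = 0` for all sheaves `F`, `f` integral surjective. -/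
theorem ext_eq_zero [Surjective f] (n : ℕ) :
    ∀ (F : EtCoh.Ab U) (x : Ext (Qf Scheme.etaleTopology f) ((aPullE U).obj F) n), x = 0 := by
  induction n with
  | zero =>
    intro F x
    obtain ⟨φ, rfl⟩ := (Ext.mk₀_bijective _ _).2 x
    rw [hom_Qf_eq_zero f F φ, Ext.mk₀_zero]
  | succ n ih =>
    intro F x
    let m : F ⟶ (EtCoh.push f).obj ((EtCoh.pull f).obj F) := (EtCoh.pullPushAdj f).unit.app F
    have hm : Mono m := mono_unit f F
    let S : ShortComplex (EtCoh.Ab U) := ShortComplex.mk m (cokernel.π m) (cokernel.condition m)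
    have hS : S.ShortExact :=
      { exact := ShortComplex.exact_of_g_is_cokernel _ (cokernelIsCokernel m) }
    have hS' : (S.map (aPullE U)).ShortExact := hS.map_of_exact (aPullE U)
    exact ext_eq_zero_of_shortExact (Qf Scheme.etaleTopology f) hS' n
      (fun y => ext_push_eq_zero f _ (n + 1) y) (fun y => ih _ y) x

end

/-- The topology on schemes generated by étale coverings and integral surjective morphisms. -/
abbrev KI : GrothendieckTopology Scheme.{u} := GenP.top @IsIntegralHom

instance genP_KI : GenP @IsIntegralHom KI.{u} := genP_top _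

theorem mem_KI {U V : Scheme.{u}} (f : V ⟶ U) [hf : IsIntegralHom f] [hs : Surjective f] :
    Sieve.generate (Presieve.singleton f) ∈ KI.{u} U := mem_top _ f hf hs

section

variable (K : GrothendieckTopology Scheme.{u}) [GenP @IsIntegralHom K]

theorem good_of_genP : Good K := GenP.good_of_gen @IsIntegralHom K

variable [Good K] {X : Scheme.{u}} [ContK K X] (F : EtCoh.Ab X)

omit [GenP @IsIntegralHom K] in
theorem cls : Cls @IsIntegralHom K ((aPullK K X).obj F) :=
  cls_of_ext F fun _ _ _ f _ _ n x => ext_eq_zero f n _ x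

/-- `R^q (-|_T) (a⁻¹ F) = 0`. -/
theorem isZero_rightDerived_uResK {T : Scheme.{u}} (t : T ⟶ X) (q : ℕ) (hq : 0 < q) :
    IsZero (((uResK K t).rightDerived q).obj ((aPullK K X).obj F)) :=
  GenP.isZero_rightDerived_uResK @IsIntegralHom K t _ (cls K F) q hq

/-- `H^q (I(V)) ≅ H^q_ét(V, F|_V)`. -/
theorem nonempty_H (V : Over X) (q : ℕ) :
    Nonempty (((Sec.sec K V).rightDerived q).obj ((aPullK K X).obj F) ≅
      AddCommGrpCat.of (EtCoh.H V.left ((EtCoh.pull V.hom).obj F) q)) :=
  Sec.nonempty_H K V F (fun q hq => isZero_rightDerived_uResK K F V.hom q hq) q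

end

end K224.IntK
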