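import Groth.Agent.EtDesc.K224.GenP
import Groth.Agent.EtDesc.K224.Sec
import Groth.Agent.S0157
import Groth.Agent.S0001

/-!
# Proper surjective descent for torsion sheaves

`KP`: the topology on schemes generated by étale coverings and proper surjective morphisms.  For every torsion small
étale abelian sheaf `F` on `X`: `R^q (-|_T) (a⁻¹ F) = 0` for `q > 0`, i.e. étale cohomology is the cohomology of the
big `KP`-site.
-/

set_option autoImplicit false
universe w u
open CategoryTheory CategoryTheory.Limits AlgebraicGeometry Opposite
open CategoryTheory.Abelian (Ext)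

noncomputable section

namespace K224.PropK

open Groth.Agent.Etrest Groth.Agent.Etrest.BigEtSite Groth.Agent.Etrest.BigPush K343.Basic K343.Res K343.Push
open K343.BigAdj K343.ExtVan K343.Glue K343.Topo K343.GenTop K343.Van K224.GenP

attribute [local instance] isGrothendieckAbelian_AbK

instance bc0_proper : BC0 (@IsProper : MorphismProperty Scheme.{u}) where
  stable := inferInstance
  bc f _ g f' g' h F := Groth.Agent.S0157.result f f' g' g h F

/-- The topology on schemes generated by étale coverings and proper surjective morphisms. -/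
abbrev KP : GrothendieckTopology Scheme.{u} := GenP.top @IsProper

instance genP_KP : GenP @IsProper KP.{u} := genP_top _

theorem mem_KP {U V : Scheme.{u}} (f : V ⟶ U) [hf : IsProper f] [hs : Surjective f] :
    Sieve.generate (Presieve.singleton f) ∈ KP.{u} U := mem_top _ f hf hs

/-- Cohomological descent: `Ext^n (Qf f, π⁻¹ F) = 0` for all torsion sheaves `F`, `f` proper surjective. -/
theorem ext_eq_zero {U V : Scheme.{u}} (f : V ⟶ U) [IsProper f] [Surjective f] (n : ℕ) (F : EtCoh.Ab U)
    (hF : EtCoh.IsTorsion F) (x : Ext (Qf Scheme.etaleTopology f) ((aPullE U).obj F) n) : x = 0 :=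
  K343.ExtVan.ext_eq_zero f (fun G _ _ t f' t' hp' => Groth.Agent.S0157.result f f' t' t hp' G)
    (fun G hG _ _ t f' t' hp' q => (Groth.Agent.S0001.result _ _ _ _ f t f' t' hp' G hG).1 q) n F hF x

section

variable (K : GrothendieckTopology Scheme.{u}) [GenP @IsProper K]

theorem good_of_genP : Good K := GenP.good_of_gen @IsProper K

variable [Good K] {X : Scheme.{u}} [ContK K X] (F : EtCoh.Ab X) (hF : EtCoh.IsTorsion F)

omit [GenP @IsProper K] in
include hF in
theorem cls : Cls @IsProper K ((aPullK K X).obj F) :=
  cls_of_ext F fun _ j _ f _ _ n x =>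
    ext_eq_zero f n _ (Groth.Agent.Etcore.Torsion.isTorsion_pull j F hF) x

include hF in
/-- `R^q (-|_T) (a⁻¹ F) = 0`. -/
theorem isZero_rightDerived_uResK {T : Scheme.{u}} (t : T ⟶ X) (q : ℕ) (hq : 0 < q) :
    IsZero (((uResK K t).rightDerived q).obj ((aPullK K X).obj F)) :=
  GenP.isZero_rightDerived_uResK @IsProper K t _ (cls K F hF) q hq

end

end K224.PropK
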