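import Groth.Agent.EtDesc.K224.Cut
import Groth.Agent.EtDesc.K224.FiltCx
import Groth.Agent.Htor.H253.TotalQuasi

/-!
# Total complexes of brutal truncations of a bicomplex

* `shortExact_tot`: `0 ⟶ Tot (cut S D) ⟶ Tot (cut T D) ⟶ Tot (cut R D) ⟶ 0` is short exact (`T = S ⊔ R`).
* `nonempty_homology_iso_column`: `H^n (Tot (cut {p} D)) ≅ H^{n - p} (D.X p)`.
-/

set_option autoImplicit false

universe v u

open CategoryTheory CategoryTheory.Limits HomologicalComplex₂ ComplexShape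

namespace K224.TotCut

open Cut Groth.Agent.Htor.H253.TotalPrj Groth.Agent.Htor.H253.TotalQuasi

theorem tr_add {C : Type*} [Category* C] [HasZeroObject C] [Preadditive C] {S T R : Prop} (X : C)
    (h : T → (S ∨ R)) (h' : ¬ (S ∧ R)) :
    tr T S X ≫ tr S T X + tr T R X ≫ tr R T X = 𝟙 _ := by
  by_cases hT : T
  · by_cases hs : S
    · have hr : ¬ R := fun hr => h' ⟨hs, hr⟩
      rw [tr_comp (fun _ _ => hs), tr_comp_neg (fun h => hr h.2.2), tr_self, add_zero]
    · have hr := (h hT).resolve_left hs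
      rw [tr_comp_neg (fun h => hs h.2.2), tr_comp (fun _ _ => hr), tr_self, zero_add]
  · exact (isZero_At hT).eq_of_src _ _

variable {C : Type u} [Category.{v} C] [Abelian C] [∀ D : HomologicalComplex₂ C (up ℤ) (up ℤ), D.HasTotal (up ℤ)]

variable (D : HomologicalComplex₂ C (up ℤ) (up ℤ))

/-- The cut bicomplex. -/
noncomputable abbrev cut₂ (S : Set ℤ) : HomologicalComplex₂ C (up ℤ) (up ℤ) := cut (C := CochainComplex C ℤ) S D

/-- Maps between cut bicomplexes. -/
noncomputable abbrev cutMap₂ {S T : Set ℤ} (h : Good S T) : cut₂ D S ⟶ cut₂ D T := cutMap (C := CochainComplex C ℤ) h D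

/-- Components of the canonical maps. -/
noncomputable def trf (S T : Set ℤ) (i j : ℤ) : ((cut₂ D S).X i).X j ⟶ ((cut₂ D T).X i).X j :=
  (tr (i ∈ S) (i ∈ T) (D.X i)).f j

omit [∀ D : HomologicalComplex₂ C (up ℤ) (up ℤ), D.HasTotal (up ℤ)] in
@[reassoc]
theorem trf_comp (S T U : Set ℤ) (h : S ∩ U ⊆ T) (i j : ℤ) : trf D S T i j ≫ trf D T U i j = trf D S U i j :=
  congrArg (fun k => HomologicalComplex.Hom.f k j) (tr_comp (X := D.X i) (fun h₁ h₂ => h ⟨h₁, h₂⟩))

omit [∀ D : HomologicalComplex₂ C (up ℤ) (up ℤ), D.HasTotal (up ℤ)] in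
@[reassoc]
theorem trf_comp_zero (S T U : Set ℤ) (i j : ℤ) (h : ¬ (i ∈ S ∧ i ∈ U ∧ i ∈ T)) :
    trf D S T i j ≫ trf D T U i j = 0 :=
  congrArg (fun k => HomologicalComplex.Hom.f k j) (tr_comp_neg (X := D.X i) h)

omit [∀ D : HomologicalComplex₂ C (up ℤ) (up ℤ), D.HasTotal (up ℤ)] in
theorem trf_self (S : Set ℤ) (i j : ℤ) : trf D S S i j = 𝟙 _ :=
  congrArg (fun k => HomologicalComplex.Hom.f k j) (tr_self (i ∈ S) (D.X i))

omit [∀ D : HomologicalComplex₂ C (up ℤ) (up ℤ), D.HasTotal (up ℤ)] in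
theorem trf_add (S T R : Set ℤ) (i j : ℤ) (h : i ∈ T → (i ∈ S ∨ i ∈ R)) (h' : ¬ (i ∈ S ∧ i ∈ R)) :
    trf D T S i j ≫ trf D S T i j + trf D T R i j ≫ trf D R T i j = 𝟙 _ :=
  congrArg (fun k => HomologicalComplex.Hom.f k j) (tr_add (D.X i) h h')

/-- Degreewise map between the totals (no condition). -/
noncomputable def tm (S T : Set ℤ) (n : ℤ) : ((cut₂ D S).total (up ℤ)).X n ⟶ ((cut₂ D T).total (up ℤ)).X n :=
  (cut₂ D S).totalDesc (fun i j h => trf D S T i j ≫ (cut₂ D T).ιTotal (up ℤ) i j n h)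

@[reassoc]
theorem ι_tm (S T : Set ℤ) (i j n : ℤ) (h : π (up ℤ) (up ℤ) (up ℤ) (i, j) = n) :
    (cut₂ D S).ιTotal (up ℤ) i j n h ≫ tm D S T n = trf D S T i j ≫ (cut₂ D T).ιTotal (up ℤ) i j n h := by
  rw [tm, ι_totalDesc]

theorem map_f {S T : Set ℤ} (h : Good S T) (n : ℤ) : (total.map (cutMap₂ D h) (up ℤ)).f n = tm D S T n := by
  apply total.hom_ext
  intro i j hij
  rw [ι_tm, ιTotal_map]
  rfl

theorem tm_comp (S T U : Set ℤ) (h : S ∩ U ⊆ T) (n : ℤ) : tm D S T n ≫ tm D T U n = tm D S U n := by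
  apply total.hom_ext
  intro i j hij
  rw [ι_tm_assoc, ι_tm, ι_tm, trf_comp_assoc _ _ _ _ h]

theorem tm_comp_zero (S T U : Set ℤ) (h : ∀ p, ¬ (p ∈ S ∧ p ∈ U ∧ p ∈ T)) (n : ℤ) :
    tm D S T n ≫ tm D T U n = 0 := by
  apply total.hom_ext
  intro i j hij
  rw [ι_tm_assoc, ι_tm, trf_comp_zero_assoc _ _ _ _ _ _ (h i), comp_zero, zero_comp]

theorem tm_self (S : Set ℤ) (n : ℤ) : tm D S S n = 𝟙 _ := by
  apply total.hom_ext
  intro i j hij
  rw [ι_tm, Category.comp_id, trf_self, Category.id_comp]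

theorem tm_add (S T R : Set ℤ) (h : T = S ∪ R) (h' : Disjoint S R) (n : ℤ) :
    tm D T S n ≫ tm D S T n + tm D T R n ≫ tm D R T n = 𝟙 _ := by
  apply total.hom_ext
  intro i j hij
  rw [Preadditive.comp_add, ι_tm_assoc, ι_tm, ι_tm_assoc, ι_tm, ← Category.assoc, ← Category.assoc,
    ← Preadditive.add_comp, Category.comp_id, trf_add D S T R i j (fun hi => by rwa [h] at hi)
    (fun hi => Set.disjoint_left.1 h' hi.1 hi.2), Category.id_comp]

theorem map_comp_zero {S T R : Set ℤ} (h₁ : Good S T) (h₂ : Good T R) (h' : Disjoint S R) :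
    total.map (cutMap₂ D h₁) (up ℤ) ≫ total.map (cutMap₂ D h₂) (up ℤ) = 0 := by
  ext n : 1
  rw [HomologicalComplex.comp_f, map_f, map_f]
  exact tm_comp_zero D S T R (fun p hp => Set.disjoint_left.1 h' hp.1 hp.2.1) n

theorem shortExact_tot {S T R : Set ℤ} (h₁ : Good S T) (h₂ : Good T R) (h : T = S ∪ R) (h' : Disjoint S R)
    (w : total.map (cutMap₂ D h₁) (up ℤ) ≫ total.map (cutMap₂ D h₂) (up ℤ) = 0) :
    (ShortComplex.mk _ _ w).ShortExact := by
  apply HomologicalComplex.shortExact_of_degreewise_shortExact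
  intro n
  have e₁ := map_f D h₁ n
  have e₂ := map_f D h₂ n
  have e₃ := tm_comp D S T S (by rw [h]; exact fun x hx => Or.inl hx.1) n
  have e₄ := tm_comp D R T R (by rw [h]; exact fun x hx => Or.inr hx.1) n
  exact ShortComplex.Splitting.shortExact
    { r := tm D T S n
      s := tm D R T n
      f_r := (congrArg (fun k => k ≫ tm D T S n) e₁).trans (e₃.trans (tm_self D S n))
      s_g := (congrArg (fun k => tm D R T n ≫ k) e₂).trans (e₄.trans (tm_self D R n))
      id := (congrArg₂ (fun k l => tm D T S n ≫ k + l ≫ tm D R T n) e₁ e₂).trans (tm_add D S T R h h' n) }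

section Column

variable (E : HomologicalComplex₂ C (up ℤ) (up ℤ)) (p : ℤ) (hE : ∀ i, i ≠ p → IsZero (E.X i))

/-- The inclusion of the column. -/
noncomputable def colι (n : ℤ) : ((E.X p)⟦-p⟧).X n ⟶ (E.total (up ℤ)).X n :=
  E.ιTotal (up ℤ) p (n + -p) n (by dsimp; lia)

/-- The projection to the column. -/
noncomputable def colπ (n : ℤ) : (E.total (up ℤ)).X n ⟶ ((E.X p)⟦-p⟧).X n :=
  prj E p (n + -p) n

include hE

omit [∀ D : HomologicalComplex₂ C (up ℤ) (up ℤ), D.HasTotal (up ℤ)] in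
theorem isZero_E (i j : ℤ) (h : i ≠ p) : IsZero ((E.X i).X j) :=
  (HomologicalComplex.eval C (up ℤ) j).map_isZero (hE i h)

theorem colι_d (n n' : ℤ) (h : n + 1 = n') :
    colι E p n ≫ (E.total (up ℤ)).d n n' = ((E.X p)⟦-p⟧).d n n' ≫ colι E p n' := by
  subst h
  have h1 := ι_d E p (n + -p) n (n + 1) (by lia) rfl
  have h2 : (E.d p (p + 1)).f (n + -p) = 0 := (isZero_E E p hE (p + 1) (n + -p) (by lia)).eq_of_tgt _ _
  have h5 : π (up ℤ) (up ℤ) (up ℤ) (p, n + 1 + -p) = n + 1 := (by lia : p + (n + 1 + -p) = n + 1)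
  have h4 : ∀ (k : ℤ) (_ : n + 1 + -p = k) (hk' : π (up ℤ) (up ℤ) (up ℤ) (p, k) = n + 1),
    (E.X p).d (n + -p) (n + 1 + -p) ≫ E.ιTotal (up ℤ) p (n + 1 + -p) (n + 1) h5 =
      (E.X p).d (n + -p) k ≫ E.ιTotal (up ℤ) p k (n + 1) hk' := by
    rintro k rfl hk'
    rfl
  have h3 : ((E.X p)⟦-p⟧).d n (n + 1) ≫ colι E p (n + 1) =
      p.negOnePow • ((E.X p).d (n + -p) (n + 1 + -p) ≫ E.ιTotal (up ℤ) p (n + 1 + -p) (n + 1) h5) := by
    have h6 : ((E.X p)⟦-p⟧).d n (n + 1) = (-p).negOnePow • (E.X p).d (n + -p) (n + 1 + -p) := rfl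
    have h7 : (-p).negOnePow = p.negOnePow := Int.negOnePow_neg p
    rw [h7] at h6
    have h9 := Linear.units_smul_comp p.negOnePow ((E.X p).d (n + -p) (n + 1 + -p))
      (E.ιTotal (up ℤ) p (n + 1 + -p) (n + 1) h5)
    have h10 := congrArg (fun k => k ≫ colι E p (n + 1)) h6
    exact h10.trans h9
  rw [h2, zero_comp, zero_add] at h1
  refine h1.trans (Eq.trans ?_ h3.symm)
  have h8 : n + 1 + -p = n + -p + 1 := add_right_comm n 1 (-p)
  exact congrArg (fun k => p.negOnePow • k) (h4 _ h8 _).symm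

/-- A bicomplex concentrated in one column. -/
noncomputable def colIso : (E.X p)⟦-p⟧ ≅ E.total (up ℤ) :=
  HomologicalComplex.Hom.isoOfComponents (fun n =>
    { hom := colι E p n
      inv := colπ E p n
      hom_inv_id := ι_prj E p (n + -p) n (by lia)
      inv_hom_id := by
        apply total.hom_ext
        intro i j hij
        by_cases h : i = p
        · subst h
          have hij' : i + j = n := hij
          obtain rfl : j = n + -i := by lia
          have := ι_prj E i (n + -i) n hij'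
          rw [Category.comp_id]
          exact (Category.assoc _ _ _).symm.trans ((congrArg (· ≫ colι E i n) this).trans (Category.id_comp _))
        · exact (isZero_E E p hE i j h).eq_of_src _ _ }) (fun n n' h => colι_d E p hE n n' h)

theorem nonempty_homology_iso_column (n m : ℤ) (h : m + p = n) :
    Nonempty ((E.total (up ℤ)).homology n ≅ (E.X p).homology m) := by
  have e₁ := (HomologicalComplex.homologyFunctor C (up ℤ) n).mapIso (colIso E p hE)
  have e₂ := ((HomologicalComplex.homologyFunctor C (up ℤ) 0).shiftIso (-p) n m (by lia)).app (E.X p)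
  exact ⟨e₁.symm ≪≫ e₂⟩

end Column

/-- The cohomology of the total complex of a column of a bicomplex. -/
theorem nonempty_homology_iso_cut (p n m : ℤ) (h : m + p = n) :
    Nonempty (((cut₂ D {p}).total (up ℤ)).homology n ≅ (D.X p).homology m) := by
  obtain ⟨e⟩ := nonempty_homology_iso_column (cut₂ D {p}) p (fun i hi => isZero_cut_X _ _ _ (Or.inl hi)) n m h
  exact ⟨e ≪≫ (HomologicalComplex.homologyFunctor C (up ℤ) m).mapIso (Cut.iso (Set.mem_singleton p) (D.X p))⟩

end K224.TotCut
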