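import Groth.Agent.EtDesc.K224.IntK
import Groth.Agent.S2570

/-!
# Universally open surjective morphisms are coverings for the topology `KI`

`KI` is generated by étale coverings and integral surjective morphisms.
-/

set_option autoImplicit false
universe w u
open CategoryTheory CategoryTheory.Limits AlgebraicGeometry Opposite

noncomputable section

namespace K224.UOpenK

open K343.Topo K224.GenP K224.IntK

theorem zariski_le_KI : Scheme.zariskiTopology.{u} ≤ KI.{u} :=
  Scheme.zariskiTopology_le_etaleTopology.trans (GenP.le @IsIntegralHom)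

theorem mem_of_noetherian {X Y : Scheme.{u}} [IsNoetherian Y] (f : X ⟶ Y) [UniversallyOpen f] [Surjective f]
    [LocallyOfFiniteType f] : Sieve.generate (Presieve.singleton f) ∈ KI.{u} Y := by
  obtain ⟨Y', g, h1, h2, h3⟩ := Groth.Agent.S2570.result f
  refine KI.{u}.transitive (mem_KI g) _ ?_
  rintro Z k ⟨_, k', _, ⟨⟩, rfl⟩
  rw [Sieve.pullback_comp]
  apply KI.{u}.pullback_stable
  apply mem_of_zariski_local KI.{u} zariski_le_KI
  intro y'
  obtain ⟨U, hU, s, hs⟩ := h3 y'
  refine ⟨_, U.ι, inferInstance, by rwa [Scheme.Opens.range_ι], ?_⟩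
  have h4 : ((Sieve.generate (Presieve.singleton f)).pullback g).pullback U.ι = ⊤ := by
    rw [← Sieve.id_mem_iff_eq_top]
    refine ⟨_, s ≫ pullback.fst f g, f, ⟨⟩, ?_⟩
    rw [Category.assoc, pullback.condition, reassoc_of% hs, Category.id_comp]
  rw [h4]
  exact KI.{u}.top_mem _

theorem mem_KI_of_universallyOpen {X Y : Scheme.{u}} [IsLocallyNoetherian Y] (f : X ⟶ Y) [UniversallyOpen f]
    [Surjective f] [LocallyOfFiniteType f] : Sieve.generate (Presieve.singleton f) ∈ KI.{u} Y := by
  apply mem_of_zariski_local KI.{u} zariski_le_KI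
  intro y
  obtain ⟨_, ⟨U, hU, rfl⟩, hyU, -⟩ := Y.isBasis_affineOpens.exists_subset_of_mem_open (Set.mem_univ y) isOpen_univ
  refine ⟨_, Scheme.Opens.ι U, inferInstance, by rwa [Scheme.Opens.range_ι], ?_⟩
  have hN : IsNoetherian (U : Scheme.{u}) := by
    have h1 : IsLocallyNoetherian (U : Scheme.{u}) := inferInstance
    have h2 : IsAffine (U : Scheme.{u}) := hU
    exact { toIsLocallyNoetherian := h1, toCompactSpace := inferInstance }
  refine KI.{u}.superset_covering ?_ (mem_of_noetherian (pullback.snd f (Scheme.Opens.ι U)))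
  rintro Z k ⟨_, k', _, ⟨⟩, rfl⟩
  refine ⟨_, k' ≫ pullback.fst f (Scheme.Opens.ι U), f, ⟨⟩, ?_⟩
  rw [Category.assoc, Category.assoc, pullback.condition]

end K224.UOpenK
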