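import Groth.Agent.EtDesc.K224.BigTop
import Groth.Agent.Sga4h.RDExact
import Groth.Agent.Sga4h.FunLES
import Mathlib.CategoryTheory.Sites.LocallyInjective
import Mathlib.CategoryTheory.Sites.LocallyBijective

/-!
# Vanishing of `R^i ε_*` for the topology generated by a class of morphisms (big sites)

`genTop K' P` is the topology generated by `K'` and the coverings `w ∈ P`.  `van`: if `A'` is a family of weak Serre
classes of `K'`-sheaves, stable under restriction, consisting of `genTop K' P`-sheaves, stable under `R^i w_*`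
(`w ∈ P`), then `R^i ε_* F = 0` for `i ≥ 1` and `ε_* F ∈ A'`.
-/

set_option autoImplicit false
set_option linter.unusedSectionVars false
universe u
open CategoryTheory CategoryTheory.Limits Opposite AlgebraicGeometry

noncomputable section
namespace K224.Van

open Groth.Agent BigTop

section

variable {K K' : GrothendieckTopology Scheme.{u}} (h : K' ≤ K)

/-- `ε⁻¹ R^{n+1} ε_* F = 0`. -/
theorem isZero_inv_rightDerived {X : Scheme.{u}} (F : Sh K X) (n : ℕ) :
    IsZero ((epsInv h X).obj (((eps h X).rightDerived (n + 1)).obj F)) := by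
  have e := Sga4h.RDExact.postIso (eps h X) (epsInv h X) (n + 1)
  have e₂ := Sga4h.RDExact.congrIso (F := eps h X ⋙ epsInv h X)
    (G := 𝟭 _) (asIso (epsAdj h X).counit) (n + 1)
  exact (Sga4h.FunLES.isZero_rightDerived_of_exact (𝟭 (Sh K X)) F n).of_iso
    ((e.app F).symm ≪≫ e₂.app F)

/-- Sections of a `K'`-sheaf killed by `ε⁻¹` vanish locally for `K`. -/
theorem locally_zero {X : Scheme.{u}} (Φ : Sh K' X) (hΦ : IsZero ((epsInv h X).obj Φ)) (U : Over X)
    (s : Φ.obj.obj (op U)) :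
    ∃ S ∈ K U.left, ∀ ⦃V : Over X⦄ (g : V ⟶ U), S.arrows g.left → Φ.obj.map g.op s = 0 := by
  have h1 : ∀ V, (toSheafify (K.over X) Φ.obj).app V = 0 := fun V => by
    have h2 : toSheafify (K.over X) Φ.obj = 0 := by
      have h3 : 𝟙 ((presheafToSheaf (K.over X) AddCommGrpCat.{u + 1}).obj Φ.obj) = 0 :=
        (IsZero.iff_id_eq_zero _).1 hΦ
      have h4 : toSheafify (K.over X) Φ.obj = ((sheafificationAdjunction (K.over X) AddCommGrpCat.{u + 1}).homEquiv _ _)
        (𝟙 ((presheafToSheaf (K.over X) AddCommGrpCat.{u + 1}).obj Φ.obj)) := by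
        rw [Adjunction.homEquiv_id]
      rw [h4, h3, Adjunction.homEquiv_unit, Functor.map_zero, comp_zero]
    rw [h2]
    rfl
  have h5 : Presheaf.equalizerSieve (F := Φ.obj) s 0 ∈ (K.over X) U := by
    refine Presheaf.equalizerSieve_mem (K.over X) (toSheafify (K.over X) Φ.obj) _ _ ?_
    rw [h1]
    rfl
  rw [GrothendieckTopology.mem_over_iff] at h5
  refine ⟨_, h5, fun V g hg => ?_⟩
  rw [Sieve.overEquiv_iff] at hg
  let l : V ⟶ Over.mk (g.left ≫ U.hom) := Over.homMk (𝟙 _) (by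
    change 𝟙 _ ≫ g.left ≫ U.hom = V.hom
    rw [Category.id_comp, Over.w g])
  have hl : g = l ≫ (Over.homMk g.left : Over.mk (g.left ≫ U.hom) ⟶ U) := by
    ext
    exact (Category.id_comp _).symm
  have hg' : Φ.obj.map (Over.homMk g.left : Over.mk (g.left ≫ U.hom) ⟶ U).op s = 
      Φ.obj.map (Over.homMk g.left : Over.mk (g.left ≫ U.hom) ⟶ U).op 0 := hg
  rw [hl, op_comp, Φ.obj.map_comp]
  change Φ.obj.map l.op (Φ.obj.map _ s) = 0
  rw [hg', map_zero, map_zero]

/-- `R^i ε_* (F|_X) ≅ (R^i ε_* F)|_X`. -/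
def resRightDerivedIso {X Y : Scheme.{u}} (f : X ⟶ Y) (n : ℕ) (F : Sh K Y) :
    ((eps h X).rightDerived n).obj ((res K f).obj F) ≅ (res K' f).obj (((eps h Y).rightDerived n).obj F) :=
  (Sga4h.RDExact.preIso (res K f) (eps h X) (injective_res K f) n).symm.app F ≪≫
  (Sga4h.RDExact.congrIso (F := res K f ⋙ eps h X) (G := eps h Y ⋙ res K' f)
    (NatIso.ofComponents (fun _ => Iso.refl _) (fun φ => by simp only [Iso.refl_hom]; rfl)) n).app F ≪≫
  (Sga4h.RDExact.postIso (eps h Y) (res K' f) n).app F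

end

section Sep

variable {K' : GrothendieckTopology Scheme.{u}} {X : Scheme.{u}} (Φ : Sh K' X)

/-- The finest topology for which `Φ` is separated. -/
def sepTop : GrothendieckTopology Scheme.{u} where
  sieves U := {S | ∀ ⦃U' : Scheme.{u}⦄ (g : U' ⟶ U) (v : U' ⟶ X) (s : Φ.obj.obj (op (Over.mk v))),
    (∀ ⦃W : Scheme.{u}⦄ (k : W ⟶ U'), S.arrows (k ≫ g) →
      Φ.obj.map (Over.homMk k : Over.mk (k ≫ v) ⟶ Over.mk v).op s = 0) → s = 0}
  top_mem' U := by
    intro U' g v s hs
    have h1 := hs (𝟙 U') trivial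
    let l : Over.mk v ⟶ Over.mk (𝟙 U' ≫ v) := Over.homMk (𝟙 U') (by
      change 𝟙 U' ≫ 𝟙 U' ≫ v = v
      simp)
    have h2 := congrArg (Φ.obj.map l.op) h1
    rw [map_zero, ← ConcreteCategory.comp_apply, ← Φ.obj.map_comp, ← op_comp] at h2
    have h3 : l ≫ (Over.homMk (𝟙 U') : Over.mk (𝟙 U' ≫ v) ⟶ Over.mk v) = 𝟙 _ := by
      ext
      exact Category.comp_id _
    rw [h3, op_id, Φ.obj.map_id] at h2
    exact h2
  pullback_stable' U V S f hS := by
    intro U' g v s hs
    refine hS (g ≫ f) v s fun W k hk => hs k ?_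
    change S.arrows ((k ≫ g) ≫ f)
    rwa [Category.assoc]
  transitive' U S hS R hR := by
    intro U' g v s hs
    refine hS g v s fun W k hk => ?_
    refine hR hk (𝟙 W) (k ≫ v) _ fun W' k' hk' => ?_
    have hk'' : R.arrows ((k' ≫ k) ≫ g) := by
      have : R.arrows ((k' ≫ 𝟙 W) ≫ k ≫ g) := hk'
      simpa using this
    have h1 := hs (k' ≫ k) hk''
    let l : Over.mk (k' ≫ k ≫ v) ⟶ Over.mk ((k' ≫ k) ≫ v) := Over.homMk (𝟙 _) (by simp)
    have h2 : (Over.homMk k' : Over.mk (k' ≫ k ≫ v) ⟶ Over.mk (k ≫ v)) ≫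
        (Over.homMk k : Over.mk (k ≫ v) ⟶ Over.mk v) =
        l ≫ (Over.homMk (k' ≫ k) : Over.mk ((k' ≫ k) ≫ v) ⟶ Over.mk v) := by
      ext
      exact (Category.id_comp _).symm
    rw [← ConcreteCategory.comp_apply, ← Φ.obj.map_comp, ← op_comp, h2, op_comp, Φ.obj.map_comp,
      ConcreteCategory.comp_apply, h1, map_zero]

theorem le_sepTop : K' ≤ sepTop Φ := by
  intro U S hS U' g v s hs
  refine eq_zero_of_sieve Φ (Over.mk v) s (S.pullback g) (K'.pullback_stable g hS) fun W k hk => ?_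
  have h1 := hs k.left hk
  let l : W ⟶ Over.mk (k.left ≫ v) := Over.homMk (𝟙 _) (by
    have := Over.w k
    change 𝟙 _ ≫ k.left ≫ v = W.hom
    rw [Category.id_comp]
    exact this)
  have h2 : k = l ≫ (Over.homMk k.left : Over.mk (k.left ≫ v) ⟶ Over.mk v) := by
    ext
    exact (Category.id_comp _).symm
  rw [h2, op_comp, Φ.obj.map_comp, ConcreteCategory.comp_apply, h1, map_zero]

theorem isCov_sepTop (P : MorphismProperty Scheme.{u}) [P.IsStableUnderBaseChange]
    (hP : ∀ ⦃W V : Scheme.{u}⦄ (w : W ⟶ V), P w → ∀ (v : V ⟶ X) (s : Φ.obj.obj (op (Over.mk v))),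
      Φ.obj.map (Over.homMk w : Over.mk (w ≫ v) ⟶ Over.mk v).op s = 0 → s = 0)
    {W V : Scheme.{u}} (w : W ⟶ V) (hw : P w) : IsCov (sepTop Φ) w := by
  intro U' g v s hs
  refine hP (pullback.snd w g) (MorphismProperty.pullback_snd _ _ hw) v s (hs _ ?_)
  exact ⟨_, pullback.fst w g, w, ⟨⟩, pullback.condition⟩

end Sep

/-- The topology generated by `K'` and `P`. -/
def genTop (K' : GrothendieckTopology Scheme.{u}) (P : MorphismProperty Scheme.{u}) :
    GrothendieckTopology Scheme.{u} :=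
  sInf {T | K' ≤ T ∧ ∀ ⦃W V : Scheme.{u}⦄ (w : W ⟶ V), P w → IsCov T w}

theorem le_genTop (K' : GrothendieckTopology Scheme.{u}) (P : MorphismProperty Scheme.{u}) : K' ≤ genTop K' P :=
  le_sInf fun _ hT => hT.1

theorem isCov_genTop (K' : GrothendieckTopology Scheme.{u}) (P : MorphismProperty Scheme.{u})
    {W V : Scheme.{u}} (w : W ⟶ V) (hw : P w) : IsCov (genTop K' P) w := by
  rw [IsCov, genTop, GrothendieckTopology.mem_sInf]
  exact fun T hT => hT.2 w hw

theorem genTop_le {K' : GrothendieckTopology Scheme.{u}} {P : MorphismProperty Scheme.{u}}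
    {T : GrothendieckTopology Scheme.{u}} (h1 : K' ≤ T) (h2 : ∀ ⦃W V : Scheme.{u}⦄ (w : W ⟶ V), P w → IsCov T w) :
    genTop K' P ≤ T :=
  sInf_le ⟨h1, h2⟩

section

variable {K' : GrothendieckTopology Scheme.{u}} {P : MorphismProperty Scheme.{u}} [P.IsStableUnderBaseChange]
    (A' : ∀ X : Scheme.{u}, ObjectProperty (Sh K' X)) [∀ X, WSerre.IsWeakSerre (A' X)]
    (h2 : ∀ ⦃X Y : Scheme.{u}⦄ (f : X ⟶ Y) (F' : Sh K' Y), A' Y F' → A' X ((res K' f).obj F'))
    (h3 : ∀ (X : Scheme.{u}) (F' : Sh K' X), A' X F' → Presheaf.IsSheaf ((genTop K' P).over X) F'.obj)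
    (h4 : ∀ ⦃X Y : Scheme.{u}⦄ (f : X ⟶ Y), P f → ∀ (F' : Sh K' X), A' X F' → ∀ i : ℕ,
        A' Y (((pf K' f).rightDerived i).obj F'))

local notation "hh" => le_genTop K' P

include h2 h3 h4 in
/-- The key monomorphism: for a covering `w : W ⟶ V` in `P`, the unit is mono on `R^{n+1} ε_* F`. -/
theorem mono_unit_rightDerived (n : ℕ) (V : Scheme.{u})
    (hn : ∀ (F : Sh (genTop K' P) V), A' V ((eps hh V).obj F) → ∀ i : ℕ, 1 ≤ i → i ≤ n →
      IsZero (((eps hh V).rightDerived i).obj F))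
    {W : Scheme.{u}} (w : W ⟶ V) (hw : P w) (F : Sh (genTop K' P) V) (hF : A' V ((eps hh V).obj F)) :
    Mono ((adj K' w).unit.app (((eps hh V).rightDerived (n + 1)).obj F)) := by
  have hA : ∀ F, A' V F → IsIso ((epsAdj hh V).unit.app F) :=
    fun F hF => isIso_unit_of_isSheaf hh V F (h3 V F hF)
  refine K579.Abs2.mono_unit (epsAdj hh V) (A' V) hA
    (mon K' w) (adj K' w).unit (mon (genTop K' P) w) (adj (genTop K' P) w).unit (theta hh w)
    (fun X => theta_comp hh w X)
    (fun I hI => isKInjective_mon (genTop K' P) w I hI) (fun X => mono_unit_of_cover w (isCov_genTop K' P w hw) X)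
    (fun F hF i => ?_) n (fun F hF i hi hi' => ?_) F hF
  · refine (A' V).prop_of_iso ((Sga4h.RDExact.preIso (res K' w) (pf K' w) (injective_res K' w) i).symm.app F) ?_
    exact h4 w hw _ (h2 w F hF) i
  · have : IsIso ((epsAdj hh V).unit.app F) := hA F hF
    exact hn _ ((A' V).prop_of_iso (asIso ((epsAdj hh V).unit.app F)) hF) i hi hi'

include h2 h3 h4 in
/-- The vanishing of `R^i ε_* F` for `i ≥ 1` and `ε_* F ∈ A'`. -/
theorem van (n : ℕ) : ∀ (X : Scheme.{u}) (F : Sh (genTop K' P) X),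
    A' X ((eps hh X).obj F) → ∀ i : ℕ, 1 ≤ i → i ≤ n → IsZero (((eps hh X).rightDerived i).obj F) := by
  induction n with
  | zero => intro X F _ i h1 h2; omega
  | succ n hn =>
    intro X F hF i hi hi'
    obtain hlt | rfl := lt_or_eq_of_le hi'
    · exact hn X F hF i hi (by omega)
    clear hi hi'
    set Φ := ((eps hh X).rightDerived (n + 1)).obj F with hΦ
    have hP : ∀ ⦃W V : Scheme.{u}⦄ (w : W ⟶ V), P w → ∀ (v : V ⟶ X) (s : Φ.obj.obj (op (Over.mk v))),
      Φ.obj.map (Over.homMk w : Over.mk (w ≫ v) ⟶ Over.mk v).op s = 0 → s = 0 := by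
      intro W V w hw v s hs
      have hm : Mono ((adj K' w).unit.app ((res K' v).obj Φ)) := by
        have hm' := mono_unit_rightDerived A' h2 h3 h4 n V (fun F hF => hn V F hF) w hw
          ((res (genTop K' P) v).obj F) (h2 v _ hF)
        exact K579.Abs2.mono_app_of_iso (mon K' w) (adj K' w).unit (resRightDerivedIso hh v (n + 1) F) hm'
      let i : (Over.map v).obj (Over.mk (𝟙 V)) ⟶ Over.mk v := Over.homMk (𝟙 V)
      let j : Over.mk v ⟶ (Over.map v).obj (Over.mk (𝟙 V)) := Over.homMk (𝟙 V) (by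
        exact (Category.id_comp _).trans (Category.id_comp _))
      have hji : j ≫ i = 𝟙 _ := by
        ext
        exact Category.comp_id _
      have h5 : Φ.obj.map i.op s = 0 := by
        refine eq_zero_of_mono_unit (f := w) ((res K' v).obj Φ) hm (Φ.obj.map i.op s) ?_
        change Φ.obj.map ((Over.map v).map (Over.homMk w : Over.mk w ⟶ Over.mk (𝟙 V))).op (Φ.obj.map i.op s) = 0
        have h6 : (Over.map v).map (Over.homMk w : Over.mk w ⟶ Over.mk (𝟙 V)) ≫ i =
            (Over.homMk w : Over.mk (w ≫ v) ⟶ Over.mk v) := by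
          ext
          exact Category.comp_id _
        rw [← ConcreteCategory.comp_apply, ← Φ.obj.map_comp, ← op_comp, h6]
        exact hs
      have h7 : Φ.obj.map j.op (Φ.obj.map i.op s) = s := by
        rw [← ConcreteCategory.comp_apply, ← Φ.obj.map_comp, ← op_comp, hji]
        simp
      rw [← h7, h5, map_zero]
    have hle : genTop K' P ≤ sepTop Φ := genTop_le (le_sepTop Φ) (fun W V w hw => isCov_sepTop Φ P hP w hw)
    rw [IsZero.iff_id_eq_zero]
    apply ObjectProperty.hom_ext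
    ext U s
    obtain ⟨S, hS, hS'⟩ := locally_zero hh Φ (isZero_inv_rightDerived hh F n) U.unop s
    refine hle _ hS (𝟙 U.unop.left) U.unop.hom s fun W k hk => ?_
    rw [Category.comp_id] at hk
    exact hS' (V := Over.mk (k ≫ U.unop.hom)) (Over.homMk k rfl : Over.mk (k ≫ U.unop.hom) ⟶ U.unop) hk

end

end K224.Van
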